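import Cfsg.Agent.Base
import Cfsg.Prelude.Def_Local
import Cfsg.Agent.Transfer.SylowIn

/-!
# The Baer trick and the odd `P × Q` lemma

A finite group of odd order and class at most two carries an abelian group structure
`x ∘ y = x y ⁅y, x⁆^{1/2}` with the same powers and the same automorphisms (`Baer`).
Consequence (`centralizer_of_odd_of_normalizes`): for odd `p`, if a `p`-group `A` normalizes a
`p'`-group `Q`, both normalize a `p`-group `R`, and `Q` centralizes all elements of order `p` of
`C_R(A)`, then `Q` centralizes `R`.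
-/

set_option autoImplicit false

open Subgroup
open scoped commutatorElement

namespace CL.PLoc

section Comm

variable {G : Type*} [Group G]

/-- If `⁅q, d⁆` commutes with `q` then `⁅q ^ n, d⁆ = ⁅q, d⁆ ^ n`. -/
theorem commutatorElement_pow_left_of_commute {q d : G} (h : Commute q ⁅q, d⁆) (n : ℕ) :
    ⁅q ^ n, d⁆ = ⁅q, d⁆ ^ n := by
  induction n with
  | zero => simp
  | succ n ih =>
    rw [pow_succ', commutatorElement_mul_left_eq_conj_mul, ih, (h.pow_right n).eq,
      mul_inv_cancel_right, pow_succ]

/-- If `⁅q, d⁆` commutes with `q` and the orders of `q` and `⁅q, d⁆` are coprime, then `q` and `d`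
commute. -/
theorem commute_of_commute_commutator_of_coprime {q d : G} (h : Commute q ⁅q, d⁆) {m n : ℕ}
    (hq : q ^ m = 1) (hc : ⁅q, d⁆ ^ n = 1) (hmn : m.Coprime n) : Commute q d := by
  have h1 : ⁅q, d⁆ ^ m = 1 := by
    rw [← commutatorElement_pow_left_of_commute h, hq, commutatorElement_one_left]
  have h2 := pow_gcd_eq_one.2 ⟨h1, hc⟩
  rw [hmn.gcd_eq_one, pow_one] at h2
  exact commutatorElement_eq_one_iff_commute.1 h2

/-- Coprime action, elementwise: if `Q` normalizes `R`, the orders are coprime and
`⁅R, Q, Q⁆ = 1`, then `Q` centralizes `R`. -/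
theorem le_centralizer_of_commutator_le_centralizer {Q R : Subgroup G}
    (hcop : (Nat.card Q).Coprime (Nat.card R)) (hQR : Q ≤ normalizer (R : Set G))
    (h : ⁅R, Q⁆ ≤ centralizer (Q : Set G)) : R ≤ centralizer (Q : Set G) := by
  intro d hd q hq
  have hc : ⁅q, d⁆ ∈ ⁅R, Q⁆ := by
    rw [commutator_comm]; exact commutator_mem_commutator hq hd
  have hcR : ⁅q, d⁆ ∈ R := le_normalizer_iff_commutator_le_left.1 hQR hc
  refine (commute_of_commute_commutator_of_coprime (h hc q hq) (m := Nat.card Q)
    (n := Nat.card R) ?_ ?_ hcop).eq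
  · exact congrArg Subtype.val (pow_card_eq_one' (x := (⟨q, hq⟩ : Q)))
  · exact congrArg Subtype.val (pow_card_eq_one' (x := (⟨_, hcR⟩ : R)))

theorem normalizer_inf_le_normalizer_commutator (H K : Subgroup G) :
    normalizer (H : Set G) ⊓ normalizer (K : Set G) ≤
      normalizer ((⁅H, K⁆ : Subgroup G) : Set G) := by
  intro g hg
  have h1 := CL.Transfer.conj_smul_eq_iff_mem_normalizer.2 hg.1
  have h2 := CL.Transfer.conj_smul_eq_iff_mem_normalizer.2 hg.2
  rw [← CL.Transfer.conj_smul_eq_iff_mem_normalizer]
  rw [CL.Transfer.conj_smul_eq_map] at h1 h2 ⊢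
  rw [map_commutator, h1, h2]

end Comm

section Abelian

variable {Γ V : Type*} [Group Γ] [CommGroup V] [MulDistribMulAction Γ V] [Finite V]

/-- The abelian case of the odd `P × Q` lemma (valid for every prime). -/
theorem smul_eq_of_comm {p : ℕ} [hp : Fact p.Prime] (hV : IsPGroup p V) (A Q : Subgroup Γ)
    [Finite Q] (hA : IsPGroup p A) (hQ : (Nat.card Q).Coprime p)
    (hAQ : A ≤ normalizer (Q : Set Γ))
    (h : ∀ v : V, v ^ p = 1 → (∀ a ∈ A, a • v = v) → ∀ q ∈ Q, q • v = v) :
    ∀ q ∈ Q, ∀ v : V, q • v = v := by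
  classical
  have := Fintype.ofFinite Q
  -- the norm map
  let T : V →* V :=
    { toFun := fun v => ∏ q : Q, (q : Γ) • v
      map_one' := by simp
      map_mul' := fun v w => by simp [Finset.prod_mul_distrib] }
  have hT : ∀ v, T v = ∏ q : Q, (q : Γ) • v := fun v => rfl
  have hTq : ∀ q ∈ Q, ∀ v, q • T v = T v := by
    intro q hq v
    rw [hT, Finset.smul_prod']
    refine Fintype.prod_equiv (Equiv.mulLeft (⟨q, hq⟩ : Q)) _ _ fun x => ?_
    simp [mul_smul]
  have hTfix : ∀ v, (∀ q ∈ Q, q • v = v) → T v = v ^ Nat.card Q := by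
    intro v hv
    rw [hT, Finset.prod_congr rfl fun (q : Q) _ => hv q q.2]
    simp
  have hTa : ∀ a ∈ A, ∀ v, T (a • v) = a • T v := by
    intro a ha v
    rw [hT, hT, Finset.smul_prod']
    symm
    refine Fintype.prod_equiv (Q.normalizerMonoidHom ⟨a, hAQ ha⟩).toEquiv _ _ fun x => ?_
    show a • (x : Γ) • v = (a * x * a⁻¹) • a • v
    simp [mul_smul]
  have hpow : ∀ v : V, v ^ Nat.card Q = 1 → v = 1 := by
    intro v hv
    obtain ⟨k, hk⟩ := hV v
    have h2 := pow_gcd_eq_one.2 ⟨hv, hk⟩
    rwa [(hQ.pow_right k).gcd_eq_one, pow_one] at h2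
  -- the kernel of the norm map is trivial
  have hker : T.ker = ⊥ := by
    by_contra hne
    let W : Subgroup V := T.ker ⊓ (powMonoidHom p : V →* V).ker
    have hpW : p ∣ Nat.card W := by
      have hnt : Nontrivial T.ker := (nontrivial_iff_ne_bot _).2 hne
      obtain ⟨n, hn0, hn⟩ := (hV.to_subgroup T.ker).nontrivial_iff_card.1 hnt
      obtain ⟨w, hw⟩ := exists_prime_orderOf_dvd_card' (G := T.ker) p
        (by rw [hn]; exact dvd_pow_self p hn0.ne')
      have hwo : orderOf (w : V) = p := by rw [orderOf_coe, hw]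
      have hwW : (w : V) ∈ W := ⟨w.2, by
        show (w : V) ^ p = 1
        rw [← hwo]; exact pow_orderOf_eq_one _⟩
      rw [← hwo]
      exact orderOf_dvd_natCard W hwW
    let act : MulAction A W :=
      { smul := fun a w => ⟨(a : Γ) • (w : V), by
          refine ⟨?_, ?_⟩
          · have : T w = 1 := w.2.1
            show T _ = 1
            rw [hTa a a.2, this, smul_one]
          · have : (w : V) ^ p = 1 := w.2.2
            show (_ : V) ^ p = 1
            rw [← smul_pow', this, smul_one]⟩
        one_smul := fun w => Subtype.ext (one_smul Γ (w : V))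
        mul_smul := fun a b w => Subtype.ext (mul_smul (a : Γ) (b : Γ) (w : V)) }
    have h1 : (1 : W) ∈ MulAction.fixedPoints A W := fun a => Subtype.ext (smul_one (a : Γ))
    obtain ⟨b, hb, hb1⟩ := hA.exists_fixed_point_of_prime_dvd_card_of_fixed_point W hpW h1
    apply hb1
    have hbA : ∀ a ∈ A, a • (b : V) = b := fun a ha => congrArg Subtype.val (hb ⟨a, ha⟩)
    have hbQ := h b b.2.2 hbA
    have := hTfix b hbQ
    rw [b.2.1] at this
    exact Subtype.ext (hpow _ this.symm).symm
  intro q hq v
  have h1 : T (v ^ Nat.card Q) = T (T v) := by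
    rw [map_pow, hTfix (T v) fun q hq => hTq q hq v]
  have h2 : v ^ Nat.card Q = T v := (T.ker_eq_bot_iff.1 hker) h1
  have h3 : (q • v * v⁻¹) ^ Nat.card Q = 1 := by
    rw [mul_pow, inv_pow, ← smul_pow', h2, hTq q hq, mul_inv_cancel]
  exact mul_inv_eq_one.1 (hpow _ h3)

end Abelian

section Baer

/-- Hypotheses of the Baer trick: odd order and class at most two. -/
structure BaerHyp (R : Type*) [Group R] : Prop where
  odd : Odd (Nat.card R)
  central : ∀ x y z : R, Commute ⁅x, y⁆ z

variable {R : Type*} [Group R]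

/-- The "half commutator" `⁅y, x⁆^{1/2}`. -/
noncomputable def halfComm (x y : R) : R := ⁅y, x⁆ ^ ((Nat.card R + 1) / 2)

theorem BaerHyp.halfComm_central (h : BaerHyp R) (x y z : R) : Commute (halfComm x y) z :=
  (h.central y x z).pow_left _

theorem BaerHyp.halfComm_mul_left (h : BaerHyp R) (x y z : R) :
    halfComm (x * y) z = halfComm x z * halfComm y z := by
  unfold halfComm
  rw [commutatorElement_mul_right_eq_mul_conj, mul_assoc ⁅z, x⁆, ← (h.central z y x).eq,
    ← mul_assoc, mul_inv_cancel_right, (h.central z x _).mul_pow]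

theorem BaerHyp.halfComm_mul_right (h : BaerHyp R) (x y z : R) :
    halfComm x (y * z) = halfComm x y * halfComm x z := by
  unfold halfComm
  rw [commutatorElement_mul_left_eq_conj_mul, ← (h.central z x y).eq, mul_inv_cancel_right,
    (h.central z x _).eq, (h.central y x _).mul_pow]

theorem halfComm_of_commute {x y : R} (hxy : Commute x y) : halfComm x y = 1 := by
  unfold halfComm
  rw [hxy.symm.commutator_eq, one_pow]

theorem BaerHyp.halfComm_sq (h : BaerHyp R) (x y : R) :
    halfComm x y * halfComm x y = ⁅y, x⁆ := by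
  unfold halfComm
  obtain ⟨k, hk⟩ := h.odd
  have : (Nat.card R + 1) / 2 + (Nat.card R + 1) / 2 = Nat.card R + 1 := by omega
  rw [← pow_add, this, pow_succ, pow_card_eq_one', one_mul]

theorem halfComm_mul_halfComm (x y : R) : halfComm x y * halfComm y x = 1 := by
  unfold halfComm
  rw [← commutatorElement_inv, inv_pow, inv_mul_cancel]

theorem map_halfComm (f : R ≃* R) (x y : R) : f (halfComm x y) = halfComm (f x) (f y) := by
  unfold halfComm
  rw [map_pow, map_commutatorElement]

/-- The carrier of the Baer abelian group. -/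
def Baer (_ : BaerHyp R) : Type _ := R

/-- The identity map from `R` to its Baer group. -/
def toBaer (h : BaerHyp R) : R ≃ Baer h := Equiv.refl R

noncomputable instance instCommGroupBaer (h : BaerHyp R) : CommGroup (Baer h) where
  mul x y := toBaer h ((toBaer h).symm x * (toBaer h).symm y *
    halfComm ((toBaer h).symm x) ((toBaer h).symm y))
  one := toBaer h 1
  inv x := toBaer h ((toBaer h).symm x)⁻¹
  mul_assoc := by
    intro (x : R) (y : R) (z : R)
    show x * y * halfComm x y * z * halfComm (x * y * halfComm x y) z =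
      x * (y * z * halfComm y z) * halfComm x (y * z * halfComm y z)
    rw [h.halfComm_mul_left, h.halfComm_mul_left, h.halfComm_mul_right, h.halfComm_mul_right,
      halfComm_of_commute (h.halfComm_central x y z),
      halfComm_of_commute (h.halfComm_central y z x).symm, mul_one, mul_one,
      mul_assoc (x * y), (h.halfComm_central x y z).eq]
    simp only [mul_assoc]
    rw [(h.halfComm_central y z _).eq, mul_assoc]
  one_mul := by
    intro (x : R)
    show 1 * x * halfComm 1 x = x
    rw [halfComm_of_commute (Commute.one_left x), one_mul, mul_one]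
  mul_one := by
    intro (x : R)
    show x * 1 * halfComm x 1 = x
    rw [halfComm_of_commute (Commute.one_right x), mul_one, mul_one]
  inv_mul_cancel := by
    intro (x : R)
    show x⁻¹ * x * halfComm x⁻¹ x = (1 : R)
    rw [halfComm_of_commute (Commute.refl x).inv_left, inv_mul_cancel, mul_one]
  mul_comm := by
    intro (x : R) (y : R)
    show x * y * halfComm x y = y * x * halfComm y x
    have e : y * x = ⁅y, x⁆ * (x * y) := by rw [commutatorElement_def]; group
    rw [e, (h.central y x _).eq, ← h.halfComm_sq, mul_assoc (x * y), mul_assoc (halfComm x y),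
      halfComm_mul_halfComm, mul_one]

theorem toBaer_mul (h : BaerHyp R) (x y : R) :
    toBaer h x * toBaer h y = toBaer h (x * y * halfComm x y) := rfl

theorem toBaer_one (h : BaerHyp R) : toBaer h 1 = 1 := rfl

theorem toBaer_pow (h : BaerHyp R) (x : R) (n : ℕ) : toBaer h (x ^ n) = toBaer h x ^ n := by
  induction n with
  | zero => rw [pow_zero, pow_zero, toBaer_one]
  | succ n ih =>
    rw [pow_succ (toBaer h x), ← ih, toBaer_mul,
      halfComm_of_commute ((Commute.refl x).pow_left n), mul_one, pow_succ]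

/-- An action by automorphisms on `R` is an action by automorphisms on the Baer group. -/
@[reducible] noncomputable def baerAction (h : BaerHyp R) (Γ : Type*) [Group Γ]
    [MulDistribMulAction Γ R] : MulDistribMulAction Γ (Baer h) where
  smul g x := toBaer h (g • (toBaer h).symm x)
  one_smul := fun (x : R) => one_smul Γ x
  mul_smul := fun a b (x : R) => mul_smul a b x
  smul_one := fun g => (smul_one g : g • (1 : R) = 1)
  smul_mul := by
    intro g (x : R) (y : R)
    show g • (x * y * halfComm x y) = g • x * g • y * halfComm (g • x) (g • y)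
    rw [smul_mul', smul_mul']
    congr 1
    exact map_halfComm (MulDistribMulAction.toMulEquiv R g) x y

/-- The class two case of the odd `P × Q` lemma. -/
theorem smul_eq_of_baerHyp {Γ : Type*} [Group Γ] [MulDistribMulAction Γ R] [Finite R]
    (hB : BaerHyp R) {p : ℕ} [hp : Fact p.Prime] (hR : IsPGroup p R) (A Q : Subgroup Γ)
    [Finite Q] (hA : IsPGroup p A) (hQ : (Nat.card Q).Coprime p)
    (hAQ : A ≤ normalizer (Q : Set Γ))
    (h : ∀ v : R, v ^ p = 1 → (∀ a ∈ A, a • v = v) → ∀ q ∈ Q, q • v = v) :
    ∀ q ∈ Q, ∀ v : R, q • v = v := by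
  let := baerAction hB Γ
  have : Finite (Baer hB) := Finite.of_equiv _ (toBaer hB)
  have hV : IsPGroup p (Baer hB) := by
    intro v
    obtain ⟨k, hk⟩ := hR ((toBaer hB).symm v)
    refine ⟨k, ?_⟩
    rw [← (toBaer hB).apply_symm_apply v, ← toBaer_pow, hk, toBaer_one]
  refine smul_eq_of_comm (V := Baer hB) hV A Q hA hQ hAQ fun v hv => h v ?_
  rw [← (toBaer hB).apply_symm_apply v, ← toBaer_pow] at hv
  exact hv

end Baer

/-- The odd `P × Q` lemma. Let `p` be odd, `A` a `p`-subgroup normalizing the `p'`-subgroup `Q`,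
both normalizing the `p`-subgroup `R`. If `Q` centralizes every element of order `p` of `C_R(A)`,
then `Q` centralizes `R`. -/
theorem centralizer_of_odd_of_normalizes {G : Type*} [Group G] [Finite G] {p : ℕ}
    [hp : Fact p.Prime] (hp2 : p ≠ 2) {A Q R : Subgroup G} (hA : IsPGroup p A)
    (hQ : (Nat.card Q).Coprime p) (hR : IsPGroup p R) (hAQ : A ≤ normalizer (Q : Set G))
    (hAR : A ≤ normalizer (R : Set G)) (hQR : Q ≤ normalizer (R : Set G))
    (h : ∀ x ∈ R, x ^ p = 1 → x ∈ centralizer (A : Set G) → x ∈ centralizer (Q : Set G)) :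
    R ≤ centralizer (Q : Set G) := by
  induction hn : Nat.card R using Nat.strong_induction_on generalizing R with
  | _ n ih =>
  have IH : ∀ S : Subgroup G, S < R → A ≤ normalizer (S : Set G) → Q ≤ normalizer (S : Set G) →
      S ≤ centralizer (Q : Set G) := by
    intro S hS hAS hQS
    refine ih _ ?_ (hR.to_le hS.le) hAS hQS (fun x hx => h x (hS.le hx)) rfl
    rw [← hn]
    exact lt_of_le_of_ne (card_le_of_le hS.le) fun e => hS.ne (eq_of_le_of_card_ge hS.le e.ge)
  obtain ⟨k, hk⟩ := IsPGroup.iff_card.1 hR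
  have hcop : (Nat.card Q).Coprime (Nat.card R) := hk ▸ hQ.pow_right k
  have hRQ : ⁅R, Q⁆ ≤ R := le_normalizer_iff_commutator_le_left.1 hQR
  rcases hRQ.lt_or_eq with hlt | heq
  · refine le_centralizer_of_commutator_le_centralizer hcop hQR (IH _ hlt ?_ ?_)
    · exact (le_inf hAR hAQ).trans (normalizer_inf_le_normalizer_commutator R Q)
    · exact normalizer_commutator_ge_right R Q
  by_cases hR1 : R = ⊥
  · rw [hR1]; exact bot_le
  have hlt : ⁅R, R⁆ < R := by
    have : Nontrivial R := (nontrivial_iff_ne_bot R).2 hR1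
    have : Group.IsNilpotent R := hR.isNilpotent
    have h1 := Group.IsSolvable.commutator_lt_top_of_nontrivial R
    refine lt_of_le_of_ne (commutator_le_self R) fun e => h1.ne ?_
    rw [← map_subtype_inj, map_subtype_commutator, e, ← MonoidHom.range_eq_map, range_subtype]
  have h1 : ⁅R, R⁆ ≤ centralizer (Q : Set G) :=
    IH _ hlt ((le_inf hAR hAR).trans (normalizer_inf_le_normalizer_commutator R R))
      ((le_inf hQR hQR).trans (normalizer_inf_le_normalizer_commutator R R))
  have h2 : ⁅⁅R, Q⁆, ⁅R, R⁆⁆ = ⊥ := by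
    apply commutator_commutator_eq_bot_of_rotate
    · rw [commutator_comm Q, commutator_eq_bot_iff_le_centralizer.2 h1, commutator_bot_left]
    · rw [commutator_eq_bot_iff_le_centralizer]
      exact (le_normalizer_iff_commutator_le_left.1 (normalizer_commutator_ge_left R R)).trans h1
  rw [heq, commutator_eq_bot_iff_le_centralizer] at h2
  have hB : BaerHyp R := by
    refine ⟨?_, fun x y z => ?_⟩
    · rw [hk]; exact (hp.out.odd_of_ne_two hp2).pow
    · exact Subtype.ext (h2 z.2 _ (commutator_mem_commutator x.2 y.2))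
  set N := normalizer (R : Set G) with hN
  let : MulDistribMulAction N R := MulDistribMulAction.compHom R R.normalizerMonoidHom
  have hsmul : ∀ (g : N) (v : R), ((g • v : R) : G) = g * v * g⁻¹ := fun g v => rfl
  have key := smul_eq_of_baerHyp (Γ := N) hB hR (A.subgroupOf N) (Q.subgroupOf N)
    hA.comap_subtype (by rwa [Nat.card_congr (subgroupOfEquivOfLe hQR).toEquiv])
    ((comap_mono hAQ).trans (le_normalizer_comap _)) (by
      intro v hv hvA q hq
      have h3 : (v : G) ∈ centralizer (A : Set G) := by
        intro a ha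
        have := congrArg Subtype.val (hvA ⟨a, hAR ha⟩ ha)
        rw [hsmul] at this
        exact mul_inv_eq_iff_eq_mul.1 this
      have h4 := h v v.2 (congrArg Subtype.val hv) h3 q hq
      apply Subtype.ext
      rw [hsmul]
      exact mul_inv_eq_iff_eq_mul.2 h4)
  intro x hx q hq
  have := congrArg Subtype.val (key ⟨q, hQR hq⟩ hq ⟨x, hx⟩)
  rw [hsmul] at this
  exact mul_inv_eq_iff_eq_mul.1 this

end CL.PLoc
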