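import Cfsg.Agent.Base
import Cfsg.Agent.Sig.CompLayer
import Cfsg.Agent.PComp.Core
import Cfsg.Agent.PLoc.Baer
import Cfsg.Agent.S0028

/-!
# `O_p(G)` inside the Fitting subgroup; ambient form `pC p H` of `O_p(H)`; perfect groups and
`p'`-elements; the element form of the `P × Q` lemma
-/

set_option autoImplicit false

open Cfsg Subgroup CL.Transfer
open scoped commutatorElement Pointwise

namespace CL.PLoc

variable {G : Type*} [Group G] {p : ℕ}

theorem le_pCore {N : Subgroup G} (hN : N.Normal) (h : IsPGroup p N) : N ≤ pCore p G :=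
  le_sSup ⟨hN, h⟩

theorem isPGroup_pCore [Finite G] : IsPGroup p (pCore p G) := by
  obtain ⟨M, hM, hmax⟩ := (Set.toFinite {N : Subgroup G | N.Normal ∧ IsPGroup p N}).exists_maximal
    ⟨⊥, inferInstance, IsPGroup.of_bot⟩
  have : pCore p G ≤ M := by
    refine sSup_le fun N hN => ?_
    have := hN.1
    have := hM.1
    exact le_sup_right.trans
      (hmax (y := M ⊔ N) ⟨inferInstance, hM.2.to_sup_of_normal_right hN.2⟩ le_sup_left)
  exact hM.2.to_le this

theorem map_pCore_le {G' : Type*} [Group G'] {f : G →* G'} (hf : Function.Surjective f) :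
    (pCore p G).map f ≤ pCore p G' := by
  rw [map_le_iff_le_comap]
  refine sSup_le fun N hN => ?_
  rw [← map_le_iff_le_comap]
  exact le_pCore (hN.1.map f hf) (hN.2.map f)

theorem map_pCore_equiv {G' : Type*} [Group G'] (f : G ≃* G') :
    (pCore p G).map f.toMonoidHom = pCore p G' := by
  refine le_antisymm (map_pCore_le f.surjective) fun x hx => ?_
  exact ⟨f.symm x, map_pCore_le (f := f.symm.toMonoidHom) f.symm.surjective ⟨x, hx, rfl⟩,
    f.apply_symm_apply x⟩

theorem pCore_characteristic : (pCore p G).Characteristic :=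
  characteristic_iff_map_le.2 fun f => map_pCore_le f.surjective

theorem pCore_le_fitting [Finite G] [Fact p.Prime] : pCore p G ≤ fittingSubgroup G :=
  Sig.le_fitting inferInstance isPGroup_pCore.isNilpotent

theorem pCore_le_genFitting [Finite G] [Fact p.Prime] :
    pCore p G ≤ generalizedFittingSubgroup G :=
  pCore_le_fitting.trans Sig.fitting_le_genFitting

/-- A `p`-element of the Fitting subgroup lies in `O_p(G)`. -/
theorem mem_pCore_of_mem_fitting [Finite G] [Fact p.Prime] {x : G} (hx : x ∈ fittingSubgroup G)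
    {k : ℕ} (hk : x ^ p ^ k = 1) : x ∈ pCore p G := by
  have hnil : Group.IsNilpotent (fittingSubgroup G) := Sig.fitting_isNilpotent
  have hz : IsPGroup p (zpowers (⟨x, hx⟩ : fittingSubgroup G)) := by
    refine IsPGroup.iff_card.2 ?_
    rw [Nat.card_zpowers]
    obtain ⟨j, -, hj⟩ := (Nat.dvd_prime_pow Fact.out).1
      (orderOf_dvd_of_pow_eq_one (x := (⟨x, hx⟩ : fittingSubgroup G)) (n := p ^ k)
        (Subtype.ext hk))
    exact ⟨j, hj⟩
  obtain ⟨P, hP⟩ := hz.exists_le_sylow
  have hPn : (P : Subgroup (fittingSubgroup G)).Normal := inferInstance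
  have := P.characteristic_of_normal hPn
  have hn : ((P : Subgroup (fittingSubgroup G)).map (fittingSubgroup G).subtype).Normal :=
    ConjAct.normal_of_characteristic_of_normal
  exact le_pCore hn (P.isPGroup'.map _) ⟨_, hP (mem_zpowers _), rfl⟩

theorem le_pCore_of_le_fitting [Finite G] [Fact p.Prime] {H : Subgroup G} (h : IsPGroup p H)
    (hH : H ≤ fittingSubgroup G) : H ≤ pCore p G := fun x hx =>
  let ⟨_, hk⟩ := h ⟨x, hx⟩
  mem_pCore_of_mem_fitting (hH hx) (congrArg Subtype.val hk)

theorem le_pCore_of_isSubnormal [Finite G] [Fact p.Prime] {H : Subgroup G} (hH : H.IsSubnormal)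
    (h : IsPGroup p H) : H ≤ pCore p G :=
  le_pCore_of_le_fitting h (Sig.le_fitting_of_subnormal hH h.isNilpotent)

theorem coprime_card_of_isPGroup_of_ne [Finite G] {q : ℕ} [hp : Fact p.Prime] [hq : Fact q.Prime]
    (hne : q ≠ p) (h : IsPGroup q G) : (Nat.card G).Coprime p := by
  obtain ⟨k, hk⟩ := IsPGroup.iff_card.1 h
  rw [hk]
  exact ((Nat.coprime_primes hq.out hp.out).2 hne).pow_left k

theorem coprime_card_of_isPGroup [Finite G] [hp : Fact p.Prime] (h : IsPGroup p G) {n : ℕ}
    (hn : n.Coprime p) : (Nat.card G).Coprime n := by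
  obtain ⟨k, hk⟩ := IsPGroup.iff_card.1 h
  rw [hk]
  exact hn.symm.pow_left k

theorem pCore_le_pPrimeCore [Finite G] {q : ℕ} [Fact p.Prime] [Fact q.Prime] (hne : q ≠ p) :
    pCore q G ≤ pPrimeCore p G :=
  PComp.le_pPrimeCore' inferInstance (coprime_card_of_isPGroup_of_ne hne isPGroup_pCore)

/-- A `p'`-element of the Fitting subgroup lies in `O_{p'}(G)`. -/
theorem mem_pPrimeCore_of_mem_fitting [Finite G] [hp : Fact p.Prime] {x : G}
    (hx : x ∈ fittingSubgroup G) (hk : (orderOf x).Coprime p) : x ∈ pPrimeCore p G := by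
  induction hn : orderOf x using Nat.strong_induction_on generalizing x with
  | _ n ih =>
  by_cases h1 : orderOf x = 1
  · rw [orderOf_eq_one_iff.1 h1]; exact one_mem _
  obtain ⟨q, hq, hqd⟩ := Nat.exists_prime_and_dvd h1
  have : Fact q.Prime := ⟨hq⟩
  have hqp : q ≠ p := by
    rintro rfl
    exact hq.one_lt.ne' (Nat.Coprime.eq_one_of_dvd hk.symm hqd)
  obtain ⟨a, b, ha, hb, ⟨k, hak⟩, hbq, hab⟩ := exists_p_part_mul_p'_part (p := q) x
  have hbd : orderOf b ∣ orderOf x := orderOf_dvd_of_mem_zpowers hb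
  have haF : a ∈ fittingSubgroup G := (zpowers_le.2 hx) ha
  have hbF : b ∈ fittingSubgroup G := (zpowers_le.2 hx) hb
  have hlt : orderOf b < n := by
    rw [← hn]
    refine lt_of_le_of_ne (Nat.le_of_dvd (orderOf_pos x) hbd) fun e => ?_
    rw [← e] at hqd
    exact hq.one_lt.ne' (Nat.Coprime.eq_one_of_dvd hbq.symm hqd)
  rw [hab]
  exact mul_mem (pCore_le_pPrimeCore hqp (mem_pCore_of_mem_fitting haF hak))
    (ih _ hlt hbF (Nat.Coprime.coprime_dvd_left hbd hk) rfl)

theorem fitting_le_pCore_sup_pPrimeCore [Finite G] [Fact p.Prime] :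
    fittingSubgroup G ≤ pCore p G ⊔ pPrimeCore p G := by
  intro x hx
  obtain ⟨a, b, ha, hb, ⟨k, hak⟩, hbq, hab⟩ := exists_p_part_mul_p'_part (p := p) x
  rw [hab]
  exact mul_mem (mem_sup_left (mem_pCore_of_mem_fitting ((zpowers_le.2 hx) ha) hak))
    (mem_sup_right (mem_pPrimeCore_of_mem_fitting ((zpowers_le.2 hx) hb) hbq))

theorem fitting_eq_pCore [Finite G] [Fact p.Prime] (hO : pPrimeCore p G = ⊥) :
    fittingSubgroup G = pCore p G := by
  refine le_antisymm ?_ pCore_le_fitting
  have := fitting_le_pCore_sup_pPrimeCore (p := p) (G := G)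
  rwa [hO, sup_bot_eq] at this

theorem inf_eq_bot_of_isPGroup_of_coprime {P Q : Subgroup G} (hP : IsPGroup p P)
    (hQ : (Nat.card Q).Coprime p) : P ⊓ Q = ⊥ := by
  rw [eq_bot_iff]
  intro x hx
  obtain ⟨k, hk⟩ := hP ⟨x, hx.1⟩
  exact eq_one_of_pow_eq_one_of_coprime (congrArg Subtype.val hk)
    (Nat.Coprime.coprime_dvd_left (orderOf_dvd_natCard Q hx.2) hQ)

theorem eq_bot_of_isPGroup_of_coprime {P : Subgroup G} (hP : IsPGroup p P)
    (hQ : (Nat.card P).Coprime p) : P = ⊥ := by
  simpa using inf_eq_bot_of_isPGroup_of_coprime hP hQ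

/-- A `p`-subgroup and a `p'`-subgroup normalizing each other commute. -/
theorem commutator_eq_bot_of_isPGroup_of_coprime {P Q : Subgroup G} (hP : IsPGroup p P)
    (hQ : (Nat.card Q).Coprime p) (hPQ : P ≤ normalizer (Q : Set G))
    (hQP : Q ≤ normalizer (P : Set G)) : ⁅P, Q⁆ = ⊥ := by
  rw [eq_bot_iff, ← inf_eq_bot_of_isPGroup_of_coprime hP hQ]
  exact le_inf (le_normalizer_iff_commutator_le_left.1 hQP)
    (le_normalizer_iff_commutator_le_right.1 hPQ)

theorem pCore_commute_pPrimeCore [Finite G] : ⁅pCore p G, pPrimeCore p G⁆ = ⊥ :=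
  commutator_eq_bot_of_isPGroup_of_coprime isPGroup_pCore PComp.coprime_card_pPrimeCore'
    (by rw [normalizer_eq_top]; exact le_top) (by rw [normalizer_eq_top]; exact le_top)

theorem layer_commute_pCore [Finite G] [Fact p.Prime] : ⁅layer G, pCore p G⁆ = ⊥ :=
  Sig.commutator_eq_bot_mono Sig.layer_commute_fitting le_rfl pCore_le_fitting

/-- The `p'`-elements of `F*(G)` centralize `O_p(G)`. -/
theorem mem_centralizer_pCore_of_mem_genFitting [Finite G] [Fact p.Prime] {x : G}
    (hx : x ∈ generalizedFittingSubgroup G) (hk : (orderOf x).Coprime p) :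
    x ∈ centralizer (pCore p G : Set G) := by
  have hn : (centralizer (pCore p G : Set G)).Normal := inferInstance
  have h1 : generalizedFittingSubgroup G ≤ pCore p G ⊔ centralizer (pCore p G : Set G) := by
    refine sup_le (le_sup_of_le_right ?_) ((fitting_le_pCore_sup_pPrimeCore (p := p)).trans
      (sup_le_sup_left ?_ _))
    · exact commutator_eq_bot_iff_le_centralizer.1 layer_commute_pCore
    · exact le_centralizer_iff.1 (commutator_eq_bot_iff_le_centralizer.1 pCore_commute_pPrimeCore)
  have h2 : IsPGroup p ((pCore p G ⊔ centralizer (pCore p G : Set G)).map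
      (QuotientGroup.mk' (centralizer (pCore p G : Set G)))) := by
    rw [Subgroup.map_sup, QuotientGroup.map_mk'_self, sup_bot_eq]
    exact isPGroup_pCore.map _
  obtain ⟨k, hk'⟩ := h2 ⟨_, x, h1 hx, rfl⟩
  have h3 := eq_one_of_pow_eq_one_of_coprime (congrArg Subtype.val hk')
    (coprime_orderOf_map (QuotientGroup.mk' (centralizer (pCore p G : Set G))) hk)
  exact (QuotientGroup.eq_one_iff x).1 h3

/-! ### `O_p(H)` as a subgroup of the ambient group -/

/-- `O_p(H)` as a subgroup of the ambient group. -/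
abbrev pC (p : ℕ) (H : Subgroup G) : Subgroup G := (pCore p H).map H.subtype

theorem pC_le (H : Subgroup G) : pC p H ≤ H := map_subtype_le _

theorem isPGroup_pC [Finite G] (H : Subgroup G) : IsPGroup p (pC p H) := isPGroup_pCore.map _

theorem le_pC {N H : Subgroup G} (hle : N ≤ H) (hn : H ≤ normalizer (N : Set G))
    (h : IsPGroup p N) : N ≤ pC p H := by
  rw [← map_subgroupOf_eq_of_le hle]
  exact map_mono (le_pCore (normal_subgroupOf_of_le_normalizer hn) h.comap_subtype)

theorem normalizer_le_normalizer_pC (H : Subgroup G) :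
    normalizer (H : Set G) ≤ normalizer ((pC p H : Subgroup G) : Set G) :=
  have := pCore_characteristic (p := p) (G := H)
  Sig.normalizer_le_normalizer_map_char H _

theorem le_normalizer_pC (H : Subgroup G) : H ≤ normalizer ((pC p H : Subgroup G) : Set G) :=
  le_normalizer.trans (normalizer_le_normalizer_pC H)

theorem le_pC_of_isSubnormal [Finite G] [Fact p.Prime] {H K : Subgroup G} (hle : H ≤ K)
    (hH : (H.subgroupOf K).IsSubnormal) (h : IsPGroup p H) : H ≤ pC p K := by
  rw [← map_subgroupOf_eq_of_le hle]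
  exact map_mono (le_pCore_of_isSubnormal hH h.comap_subtype)

theorem pC_le_pCore [Finite G] [Fact p.Prime] {H : Subgroup G} (hH : H.IsSubnormal) :
    pC p H ≤ pCore p G :=
  le_pCore_of_isSubnormal (Sig.isSubnormal_map_subtype_of_normal hH _) (isPGroup_pC H)

theorem pCore_inf_le_pC [Finite G] (H : Subgroup G) : pCore p G ⊓ H ≤ pC p H :=
  le_pC inf_le_right
    (Sig.le_normalizer_inf (by rw [normalizer_eq_top]; exact le_top) le_normalizer)
    isPGroup_pCore.to_inf_left

theorem pC_le_pC_of_le_normalizer [Finite G] {H K : Subgroup G} (hle : H ≤ K)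
    (hn : K ≤ normalizer (H : Set G)) : pC p H ≤ pC p K :=
  le_pC ((pC_le H).trans hle) (hn.trans (normalizer_le_normalizer_pC H)) (isPGroup_pC H)

theorem pC_inf_le [Finite G] {H K : Subgroup G} (hle : H ≤ K) : pC p K ⊓ H ≤ pC p H :=
  le_pC inf_le_right (Sig.le_normalizer_inf (hle.trans (le_normalizer_pC K)) le_normalizer)
    (isPGroup_pC K).to_inf_left

theorem pC_top : pC p (⊤ : Subgroup G) = pCore p G :=
  map_pCore_equiv topEquiv

/-! ### Perfect groups -/

/-- A perfect group is generated by its `p'`-elements. -/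
theorem pResidual_eq_top_of_isPerfect [Finite G] [Fact p.Prime] [Group.IsPerfect G] :
    pResidual p G = ⊤ := by
  have h := isPGroup_quotient_pResidual (p := p) (G := G)
  by_contra hne
  have : Nontrivial (G ⧸ pResidual p G) := QuotientGroup.nontrivial_iff.2 hne
  exact Group.IsPerfect.not_isNilpotent (G ⧸ pResidual p G) h.isNilpotent

/-- A perfect subgroup lies in every subgroup containing its `p'`-elements. -/
theorem le_of_perfect_of_forall_coprime [Finite G] [Fact p.Prime] {L T : Subgroup G}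
    (hL : ⁅L, L⁆ = L) (h : ∀ x ∈ L, (orderOf x).Coprime p → x ∈ T) : L ≤ T := by
  have : Group.IsPerfect L := isPerfect_iff.2 hL
  have h1 : pResidual p L ≤ T.subgroupOf L :=
    pResidual_le_iff.2 fun g hg => h g g.2 (by rwa [orderOf_coe])
  rw [pResidual_eq_top_of_isPerfect, top_le_iff, subgroupOf_eq_top] at h1
  exact h1

/-- In a perfect group every prime divisor of the order divides the index of the centre. -/
theorem dvd_index_center_of_isPerfect [Finite G] [hp : Fact p.Prime] [Group.IsPerfect G]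
    (h : p ∣ Nat.card G) : p ∣ (center G).index := by
  obtain ⟨x, hx⟩ := exists_prime_orderOf_dvd_card' p h
  have h1 : commutator G ≤ (MonoidHom.transferCenterPow G).ker := by
    rw [_root_.commutator_def, commutator_le]
    intro a _ b _
    rw [MonoidHom.mem_ker, map_commutatorElement, commutatorElement_eq_one_iff_mul_comm]
    exact Subtype.ext (mem_center_iff.1 (MonoidHom.transferCenterPow G b).2 _)
  have h2 := h1 (Group.IsPerfect.mem_commutator (g := x))
  rw [MonoidHom.mem_ker] at h2
  have h3 := congrArg Subtype.val h2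
  rw [MonoidHom.transferCenterPow_apply] at h3
  rw [← hx]
  exact orderOf_dvd_of_pow_eq_one h3

/-- A perfect subgroup of order divisible by `p` has a non-central `p`-element. -/
theorem exists_p_elem_not_mem_centralizer [Finite G] [hp : Fact p.Prime] {L : Subgroup G}
    (hL : ⁅L, L⁆ = L) (h : p ∣ Nat.card L) :
    ∃ x ∈ L, (∃ k, x ^ p ^ k = 1) ∧ x ∉ centralizer (L : Set G) := by
  have : Group.IsPerfect L := isPerfect_iff.2 hL
  by_contra hcon
  push Not at hcon
  obtain ⟨P⟩ := (inferInstance : Nonempty (Sylow p L))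
  have h1 : (P : Subgroup L) ≤ center L := by
    intro x hx
    obtain ⟨k, hk⟩ := P.isPGroup' ⟨x, hx⟩
    have := hcon x x.2 ⟨k, congrArg (fun y : (P : Subgroup L) => ((y : L) : G)) hk⟩
    exact mem_center_iff.2 fun y => Subtype.ext (this y y.2)
  exact P.not_dvd_index ((dvd_index_center_of_isPerfect h).trans (index_dvd_of_le h1))

/-- If `O_{p'}(G) = 1` every component has order divisible by `p`. -/
theorem dvd_card_component [Finite G] [hp : Fact p.Prime] (hO : pPrimeCore p G = ⊥)
    {L : Subgroup G} (hL : IsComponent L) : p ∣ Nat.card L := by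
  by_contra h
  have := PComp.le_pPrimeCore_of_isSubnormal hL.1 ((hp.out.coprime_iff_not_dvd.2 h).symm)
  rw [hO, le_bot_iff] at this
  exact Sig.component_ne_bot hL this

/-! ### The `P × Q` lemma, element form -/

theorem isPGroup_zpowers {x : G} {k : ℕ} (hk : x ^ p ^ k = 1) :
    IsPGroup p (zpowers x) := by
  rintro ⟨_, n, rfl⟩
  refine ⟨k, Subtype.ext ?_⟩
  show (x ^ n) ^ p ^ k = 1
  rw [← zpow_natCast, ← zpow_mul, mul_comm, zpow_mul, zpow_natCast, hk, one_zpow]

theorem zpowers_le_centralizer_iff {x : G} {H : Subgroup G} :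
    H ≤ centralizer ((zpowers x : Subgroup G) : Set G) ↔ x ∈ centralizer (H : Set G) := by
  rw [le_centralizer_iff, zpowers_le]

/-- Thompson's `P × Q` lemma for one `p'`-element `x`. -/
theorem mem_centralizer_of_pxq [Finite G] [Fact p.Prime] {P U : Subgroup G} (hP : IsPGroup p P)
    (hU : IsPGroup p U) (hPU : P ≤ normalizer (U : Set G)) {x : G} (hx : (orderOf x).Coprime p)
    (hxU : x ∈ normalizer (U : Set G)) (hxP : x ∈ centralizer (P : Set G))
    (hC : x ∈ centralizer ((U ⊓ centralizer (P : Set G) : Subgroup G) : Set G)) :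
    x ∈ centralizer (U : Set G) :=
  zpowers_le.1 (Cfsg.Agent.S0028.result p P (zpowers x) U hP (by rwa [Nat.card_zpowers]) hU
    (zpowers_le_centralizer_iff.2 hxP) hPU (zpowers_le.2 hxU) (zpowers_le_centralizer_iff.2 hC))

end CL.PLoc
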