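import Cfsg.Agent.Base
import Cfsg.Agent.PLoc.PCore

/-!
# `O_{p',E}(H)`, the preimage in `H` of the layer of `H / O_{p'}(H)`, and groups of
characteristic `p`
-/

set_option autoImplicit false

open Cfsg Subgroup CL.Transfer
open scoped commutatorElement Pointwise

namespace CL.PLoc

variable {G : Type*} [Group G] {p : ℕ}

/-- `O_{p',E}(H)`. -/
abbrev opE (p : ℕ) (H : Type*) [Group H] : Subgroup H :=
  (layer (H ⧸ pPrimeCore p H)).comap (QuotientGroup.mk' (pPrimeCore p H))

/-- `O_{p',E}(N)` as a subgroup of the ambient group. -/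
abbrev opEOf (p : ℕ) (N : Subgroup G) : Subgroup G := (opE p N).map N.subtype

theorem opEOf_le (N : Subgroup G) : opEOf p N ≤ N := map_subtype_le _

theorem opE_normal : (opE p G).Normal := inferInstance

theorem pPrimeCore_le_opE : pPrimeCore p G ≤ opE p G := by
  intro x hx
  rw [mem_comap, QuotientGroup.mk'_apply, (QuotientGroup.eq_one_iff x).2 hx]
  exact one_mem _

theorem layer_le_opE : layer G ≤ opE p G :=
  map_le_iff_le_comap.1 (Sig.map_layer_le_of_surjective _ (QuotientGroup.mk'_surjective _))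

theorem map_opE : (opE p G).map (QuotientGroup.mk' (pPrimeCore p G)) =
    layer (G ⧸ pPrimeCore p G) :=
  map_comap_eq_self_of_surjective (QuotientGroup.mk'_surjective _) _

theorem opE_eq_comap {Q : Type*} [Group Q] (f : G →* Q) (hf : Function.Surjective f)
    (hk : f.ker = pPrimeCore p G) : opE p G = (layer Q).comap f := by
  let e : G ⧸ pPrimeCore p G ≃* Q :=
    (QuotientGroup.quotientMulEquivOfEq hk.symm).trans
      (QuotientGroup.quotientKerEquivOfSurjective f hf)
  have he : f = e.toMonoidHom.comp (QuotientGroup.mk' (pPrimeCore p G)) := by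
    ext x; rfl
  rw [he, ← comap_comap, ← Sig.map_layer_equiv e, comap_map_eq_self_of_injective e.injective]

theorem opE_eq_layer (hO : pPrimeCore p G = ⊥) : opE p G = layer G := by
  rw [opE_eq_comap (MonoidHom.id G) Function.surjective_id (by rw [hO]; ext; simp), comap_id]

/-- `O_{p',E}` is compatible with quotients by normal `p'`-subgroups. -/
theorem comap_opE [Finite G] {Q : Type*} [Group Q] {f : G →* Q} (hf : Function.Surjective f)
    (hk : (Nat.card f.ker).Coprime p) : (opE p Q).comap f = opE p G := by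
  rw [comap_comap]
  symm
  refine opE_eq_comap _ ((QuotientGroup.mk'_surjective _).comp hf) ?_
  rw [← MonoidHom.comap_ker, QuotientGroup.ker_mk', PComp.comap_pPrimeCore hf hk]

theorem map_opE_equiv {Q : Type*} [Group Q] [Finite G] (e : G ≃* Q) :
    (opE p G).map e.toMonoidHom = opE p Q := by
  rw [← comap_opE (f := e.toMonoidHom) e.surjective
    (by rw [(MonoidHom.ker_eq_bot_iff _).2 e.injective]; simp),
    map_comap_eq_self_of_surjective e.surjective]

theorem opE_characteristic [Finite G] : (opE p G).Characteristic :=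
  characteristic_iff_map_eq.2 fun e => map_opE_equiv e

theorem normalizer_le_normalizer_opEOf [Finite G] (H : Subgroup G) :
    normalizer (H : Set G) ≤ normalizer ((opEOf p H : Subgroup G) : Set G) :=
  have := opE_characteristic (p := p) (G := H)
  Sig.normalizer_le_normalizer_map_char H _

variable [Finite G]

theorem opE_eq_comap_of_isSubnormal {K : Subgroup G} (hK : K.IsSubnormal) :
    opE p K = (layer (K.map (QuotientGroup.mk' (pPrimeCore p G)))).comap
      ((QuotientGroup.mk' (pPrimeCore p G)).subgroupMap K) := by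
  refine opE_eq_comap _ (MonoidHom.subgroupMap_surjective _ K) ?_
  rw [← PComp.subgroupOf_ppCore_self, PComp.ppCore_eq_inf hK]
  ext x
  rw [MonoidHom.mem_ker, mem_subgroupOf, mem_inf, ← QuotientGroup.eq_one_iff, Subtype.ext_iff]
  simp

theorem opEOf_le_opE {K : Subgroup G} (hK : K.IsSubnormal) : opEOf p K ≤ opE p G := by
  rintro _ ⟨x, hx, rfl⟩
  rw [opE_eq_comap_of_isSubnormal hK] at hx
  exact Sig.map_layer_le_of_subnormal hK.quotient ⟨_, hx, rfl⟩

theorem opE_le_opEOf {K : Subgroup G} (hK : K.IsSubnormal) (h : opE p G ≤ K) :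
    opE p G ≤ opEOf p K := by
  intro x hx
  refine ⟨⟨x, h hx⟩, ?_, rfl⟩
  rw [opE_eq_comap_of_isSubnormal hK]
  have h1 : layer (G ⧸ pPrimeCore p G) ≤ K.map (QuotientGroup.mk' (pPrimeCore p G)) := by
    rw [← map_opE]; exact map_mono h
  obtain ⟨y, hy, hyx⟩ := Sig.layer_le_map_layer h1 hx
  have : y = (QuotientGroup.mk' (pPrimeCore p G)).subgroupMap K ⟨x, h hx⟩ := Subtype.ext hyx
  rw [this] at hy
  exact hy

theorem map_opEOf_subgroupOf {K N : Subgroup G} (h : K ≤ N) :
    (opEOf p (K.subgroupOf N)).map N.subtype = opEOf p K := by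
  show ((opE p (K.subgroupOf N)).map _).map _ = (opE p K).map _
  rw [← map_opE_equiv (subgroupOfEquivOfLe h), map_map, map_map]
  rfl

theorem opEOf_le_opEOf {K N : Subgroup G} (h : K ≤ N) (hK : (K.subgroupOf N).IsSubnormal) :
    opEOf p K ≤ opEOf p N := by
  rw [← map_opEOf_subgroupOf h]
  exact map_mono (opEOf_le_opE hK)

theorem opEOf_le_opEOf_of_le {K N : Subgroup G} (h : K ≤ N) (hK : (K.subgroupOf N).IsSubnormal)
    (h' : opEOf p N ≤ K) : opEOf p N ≤ opEOf p K := by
  rw [← map_opEOf_subgroupOf h]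
  exact map_mono (opE_le_opEOf hK (map_le_iff_le_comap.1 h'))

omit [Finite G] in
theorem ppCore_le_opEOf (N : Subgroup G) : PComp.ppCore p N ≤ opEOf p N :=
  map_mono pPrimeCore_le_opE

variable [hp : Fact p.Prime]

/-- Induction principle for `O_{p',E}(G)`: it lies in `T` if `O_{p'}(G)` does and, for each
component `J` of `G / O_{p'}(G)`, so do the `p'`-elements of the preimage of `J`. -/
theorem opE_le_of_components {T : Subgroup G} (h1 : pPrimeCore p G ≤ T)
    (h2 : ∀ J : Subgroup (G ⧸ pPrimeCore p G), IsComponent J → ∀ x : G,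
      QuotientGroup.mk' (pPrimeCore p G) x ∈ J → (orderOf x).Coprime p → x ∈ T) :
    opE p G ≤ T := by
  have h3 : layer (G ⧸ pPrimeCore p G) ≤ T.map (QuotientGroup.mk' (pPrimeCore p G)) := by
    refine Sig.layer_le_iff.2 fun J hJ => ?_
    refine le_of_perfect_of_forall_coprime (p := p) (Sig.component_commutator_self hJ) ?_
    intro y hy hyo
    obtain ⟨x, rfl⟩ := QuotientGroup.mk'_surjective _ y
    obtain ⟨b, -, hb, hbx⟩ := exists_coprime_lift _ x hyo
    exact ⟨b, h2 J hJ b (hbx ▸ hy) hb, hbx⟩
  refine (comap_mono h3).trans ?_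
  rw [comap_map_eq, QuotientGroup.ker_mk']
  exact sup_le le_rfl h1

/-- `O_{p',E}(G)` is generated by its `p'`-elements. -/
theorem opE_le_of_forall_coprime {T : Subgroup G}
    (h : ∀ x ∈ opE p G, (orderOf x).Coprime p → x ∈ T) : opE p G ≤ T :=
  opE_le_of_components
    (fun x hx => h x (pPrimeCore_le_opE hx)
      (Nat.Coprime.coprime_dvd_left (orderOf_dvd_natCard _ hx) PComp.coprime_card_pPrimeCore'))
    fun _ hJ x hx => h x (Sig.component_le_layer hJ hx)

theorem opEOf_le_of_forall_coprime {N T : Subgroup G}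
    (h : ∀ x ∈ opEOf p N, (orderOf x).Coprime p → x ∈ T) : opEOf p N ≤ T :=
  map_le_iff_le_comap.2 (opE_le_of_forall_coprime fun x hx ho =>
    h x ⟨x, hx, rfl⟩ (by rwa [orderOf_coe]))

theorem opE_commute_pCore : ⁅opE p G, pCore p G⁆ = ⊥ := by
  rw [eq_bot_iff, ← inf_eq_bot_of_isPGroup_of_coprime (isPGroup_pCore (p := p) (G := G))
    (PComp.coprime_card_pPrimeCore' (p := p))]
  refine le_inf (commutator_le_right _ _) ?_
  rw [← QuotientGroup.ker_mk' (pPrimeCore p G), ← Subgroup.map_eq_bot_iff, map_commutator, map_opE]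
  exact Sig.commutator_eq_bot_mono layer_commute_pCore le_rfl
    (map_pCore_le (QuotientGroup.mk'_surjective _))

theorem opEOf_le_centralizer_pC (N : Subgroup G) :
    opEOf p N ≤ centralizer ((pC p N : Subgroup G) : Set G) := by
  rw [← commutator_eq_bot_iff_le_centralizer, ← map_commutator, opE_commute_pCore,
    Subgroup.map_bot]

/-- `O_{p',E}(N)` centralizes every `p`-subgroup of `N` normalized by `N`. -/
theorem opEOf_le_centralizer {N P : Subgroup G} (hP : IsPGroup p P) (hle : P ≤ N)
    (hn : N ≤ normalizer (P : Set G)) : opEOf p N ≤ centralizer (P : Set G) :=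
  (opEOf_le_centralizer_pC N).trans (centralizer_le (le_pC hle hn hP))

/-- Aschbacher (31.14), general form: if `C_G(P) ≤ N ≤ N_G(P)` and `P ≤ N` for a `p`-subgroup `P`,
and `U` is a `p`-subgroup normalized by `N`, then `O_{p',E}(N)` centralizes `U`. -/
theorem opEOf_le_centralizer_of_normalizes {N P U : Subgroup G} (hP : IsPGroup p P)
    (hU : IsPGroup p U) (hPN : P ≤ N) (hn : N ≤ normalizer (P : Set G))
    (hC : U ⊓ centralizer (P : Set G) ≤ N) (hNU : N ≤ normalizer (U : Set G)) :
    opEOf p N ≤ centralizer (U : Set G) := by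
  refine opEOf_le_of_forall_coprime fun x hx ho => ?_
  refine mem_centralizer_of_pxq hP hU (hPN.trans hNU) ho (hNU (opEOf_le N hx))
    (opEOf_le_centralizer hP hPN hn hx) (opEOf_le_centralizer hU.to_inf_left hC ?_ hx)
  exact Sig.le_normalizer_inf hNU (hn.trans (Sig.normalizer_le_normalizer_centralizer' P))

/-- Aschbacher (31.14): `O_{p',E}(N_G(P))` centralizes `O_p(G)`. -/
theorem opEOf_normalizer_le_centralizer_pCore {P : Subgroup G} (hP : IsPGroup p P) :
    opEOf p (normalizer (P : Set G)) ≤ centralizer (pCore p G : Set G) :=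
  opEOf_le_centralizer_of_normalizes hP isPGroup_pCore le_normalizer le_rfl
    (inf_le_right.trans (centralizer_le_normalizer _))
    (by rw [normalizer_eq_top (pCore p G)]; exact le_top)

omit hp in
theorem opEOf_centralizer_le_opEOf_normalizer (P : Subgroup G) :
    opEOf p (centralizer (P : Set G)) ≤ opEOf p (normalizer (P : Set G)) :=
  opEOf_le_opEOf (centralizer_le_normalizer _)
    (normal_subgroupOf_of_le_normalizer (Sig.normalizer_le_normalizer_centralizer' P)).isSubnormal

theorem opEOf_normalizer_eq_opEOf_centralizer {P : Subgroup G} (hP : IsPGroup p P) :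
    opEOf p (normalizer (P : Set G)) = opEOf p (centralizer (P : Set G)) :=
  le_antisymm (opEOf_le_opEOf_of_le (centralizer_le_normalizer _)
    (normal_subgroupOf_of_le_normalizer (Sig.normalizer_le_normalizer_centralizer' P)).isSubnormal
    (opEOf_le_centralizer hP le_normalizer le_rfl)) (opEOf_centralizer_le_opEOf_normalizer P)

theorem opEOf_centralizer_le_centralizer_pCore {P : Subgroup G} (hP : IsPGroup p P) :
    opEOf p (centralizer (P : Set G)) ≤ centralizer (pCore p G : Set G) :=
  (opEOf_centralizer_le_opEOf_normalizer P).trans (opEOf_normalizer_le_centralizer_pCore hP)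

omit [Finite G] hp in
theorem centralizer_zpowers (x : G) :
    centralizer ((zpowers x : Subgroup G) : Set G) = centralizer {x} := by
  rw [zpowers_eq_closure, centralizer_closure]

omit [Finite G] hp in
theorem isPGroup_zpowers_of_orderOf {x : G} (hx : orderOf x = p) : IsPGroup p (zpowers x) :=
  isPGroup_zpowers (k := 1) (by rw [pow_one, ← hx]; exact pow_orderOf_eq_one x)

/-- `O_{p'}(C_G(P))` centralizes `O_p(G)`. -/
theorem ppCore_centralizer_le_centralizer_pCore {P : Subgroup G} (hP : IsPGroup p P) :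
    PComp.ppCore p (centralizer (P : Set G)) ≤ centralizer (pCore p G : Set G) :=
  (ppCore_le_opEOf _).trans (opEOf_centralizer_le_centralizer_pCore hP)

/-! ### Characteristic `p` -/

/-- `H` has characteristic `p`: `C_H(O_p(H)) ≤ O_p(H)`. -/
def IsCharP (p : ℕ) (H : Type*) [Group H] : Prop :=
  centralizer (pCore p H : Set H) ≤ pCore p H

theorem isCharP_iff_genFitting_eq : IsCharP p G ↔ generalizedFittingSubgroup G = pCore p G := by
  constructor
  · intro h
    refine le_antisymm ?_ pCore_le_genFitting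
    refine sup_le (le_trans ?_ h) ((fitting_le_pCore_sup_pPrimeCore (p := p)).trans
      (sup_le le_rfl (le_trans ?_ h)))
    · exact commutator_eq_bot_iff_le_centralizer.1 layer_commute_pCore
    · exact le_centralizer_iff.1 (commutator_eq_bot_iff_le_centralizer.1 pCore_commute_pPrimeCore)
  · intro h
    rw [IsCharP, ← h]
    exact Sig.centralizer_genFitting_le

theorem isCharP_iff_isPGroup : IsCharP p G ↔ IsPGroup p (generalizedFittingSubgroup G) := by
  rw [isCharP_iff_genFitting_eq]
  exact ⟨fun h => h ▸ isPGroup_pCore,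
    fun h => le_antisymm (le_pCore inferInstance h) pCore_le_genFitting⟩

theorem isCharP_iff_pPrimeCore_layer : IsCharP p G ↔ pPrimeCore p G = ⊥ ∧ layer G = ⊥ := by
  constructor
  · intro h
    refine ⟨eq_bot_of_isPGroup_of_coprime (isPGroup_pCore.to_le (le_trans ?_ h))
      PComp.coprime_card_pPrimeCore', Sig.layer_eq_bot_iff.2 fun K hK => ?_⟩
    · exact le_centralizer_iff.1 (commutator_eq_bot_iff_le_centralizer.1 pCore_commute_pPrimeCore)
    · have := (isPGroup_pCore (p := p) (G := G)).isNilpotent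
      refine Sig.quasisimple_not_le_solvable hK.2 (S := pCore p G) inferInstance ?_
      rw [← isCharP_iff_genFitting_eq.1 h]
      exact Sig.component_le_genFitting hK
  · rintro ⟨h1, h2⟩
    rw [isCharP_iff_genFitting_eq, generalizedFittingSubgroup, h2, bot_sup_eq, fitting_eq_pCore h1]

theorem isCharP_iff_opE_eq_bot : IsCharP p G ↔ opE p G = ⊥ := by
  rw [isCharP_iff_pPrimeCore_layer]
  constructor
  · rintro ⟨h1, h2⟩
    rw [opE_eq_layer h1, h2]
  · intro h
    exact ⟨le_bot_iff.1 (h ▸ pPrimeCore_le_opE), le_bot_iff.1 (h ▸ layer_le_opE)⟩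

theorem isCharP_iff_opEOf_eq_bot {N : Subgroup G} : IsCharP p N ↔ opEOf p N = ⊥ := by
  rw [isCharP_iff_opE_eq_bot, map_eq_bot_iff_of_injective _ N.subtype_injective]

theorem opE_eq_bot_of_isPGroup (h : IsPGroup p (opE p G)) : opE p G = ⊥ :=
  le_bot_iff.1 (opE_le_of_forall_coprime fun x hx ho =>
    let ⟨_, hk⟩ := h ⟨x, hx⟩
    eq_one_of_pow_eq_one_of_coprime (congrArg Subtype.val hk) ho)

theorem isCharP_of_isPGroup_opEOf {N : Subgroup G} (h : IsPGroup p (opEOf p N)) : IsCharP p N :=
  isCharP_iff_opE_eq_bot.2 (opE_eq_bot_of_isPGroup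
    (h.of_equiv ((opE p N).equivMapOfInjective _ N.subtype_injective).symm))

theorem IsCharP.of_equiv {G' : Type*} [Group G'] (h : IsCharP p G) (e : G ≃* G') :
    IsCharP p G' := by
  have : Finite G' := Finite.of_equiv _ e.toEquiv
  rw [isCharP_iff_opE_eq_bot] at h ⊢
  rw [← map_opE_equiv e, h, Subgroup.map_bot]

theorem IsCharP.of_isSubnormal (h : IsCharP p G) {K : Subgroup G} (hK : K.IsSubnormal) :
    IsCharP p K :=
  isCharP_iff_opEOf_eq_bot.2
    (le_bot_iff.1 (isCharP_iff_opE_eq_bot.1 h ▸ opEOf_le_opE hK))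

theorem IsCharP.of_le {K N : Subgroup G} (h : IsCharP p N) (hle : K ≤ N)
    (hK : (K.subgroupOf N).IsSubnormal) : IsCharP p K :=
  (h.of_isSubnormal hK).of_equiv (subgroupOfEquivOfLe hle)

theorem IsCharP.of_le_normalizer {K N : Subgroup G} (h : IsCharP p N) (hle : K ≤ N)
    (hK : N ≤ normalizer (K : Set G)) : IsCharP p K :=
  h.of_le hle (normal_subgroupOf_of_le_normalizer hK).isSubnormal

/-- Aschbacher (31.16): `p`-locals of a group of characteristic `p` have characteristic `p`. -/
theorem IsCharP.normalizer (h : IsCharP p G) {P : Subgroup G} (hP : IsPGroup p P) :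
    IsCharP p (normalizer (P : Set G)) :=
  isCharP_of_isPGroup_opEOf
    (isPGroup_pCore.to_le ((opEOf_normalizer_le_centralizer_pCore hP).trans h))

theorem isCharP_normalizer_iff_centralizer {P : Subgroup G} (hP : IsPGroup p P) :
    IsCharP p (normalizer (P : Set G)) ↔ IsCharP p (centralizer (P : Set G)) := by
  rw [isCharP_iff_opEOf_eq_bot, isCharP_iff_opEOf_eq_bot, opEOf_normalizer_eq_opEOf_centralizer hP]

theorem IsCharP.centralizer (h : IsCharP p G) {P : Subgroup G} (hP : IsPGroup p P) :
    IsCharP p (centralizer (P : Set G)) :=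
  (isCharP_normalizer_iff_centralizer hP).1 (h.normalizer hP)

/-- Relative form: if `H` has characteristic `p`, so has `C_H(P)` for a `p`-subgroup `P ≤ H`. -/
theorem IsCharP.inf_centralizer {H P : Subgroup G} (h : IsCharP p H) (hP : IsPGroup p P)
    (hPH : P ≤ H) : IsCharP p (H ⊓ Subgroup.centralizer (P : Set G) : Subgroup G) := by
  have h1 := h.centralizer (P := P.subgroupOf H) hP.comap_subtype
  have h2 : Subgroup.centralizer ((P.subgroupOf H : Subgroup H) : Set H) =
      (H ⊓ Subgroup.centralizer (P : Set G)).subgroupOf H := by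
    ext x
    constructor
    · intro hx
      exact ⟨x.2, fun y hy => congrArg Subtype.val (hx ⟨y, hPH hy⟩ hy)⟩
    · intro hx y hy
      exact Subtype.ext (hx.2 y hy)
  rw [h2] at h1
  exact h1.of_equiv (subgroupOfEquivOfLe inf_le_left)

/-- If `V ≤ U` are `p`-subgroups and `C_G(V)` has characteristic `p`, so has `C_G(U)`. -/
theorem isCharP_centralizer_mono {U V : Subgroup G} (hVU : V ≤ U) (hU : IsPGroup p U)
    (hV : IsCharP p (centralizer (V : Set G))) : IsCharP p (centralizer (U : Set G)) := by
  induction hn : V.relIndex U using Nat.strong_induction_on generalizing V with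
  | _ n ih =>
  rcases hVU.eq_or_lt with rfl | hlt
  · exact hV
  have hlt' := lt_inf_normalizer hU hlt
  refine ih _ ?_ (inf_le_left : U ⊓ normalizer (V : Set G) ≤ U) ?_ rfl
  · rw [← hn, ← relIndex_mul_relIndex V _ U hlt'.le inf_le_left]
    have h1 : V.relIndex (U ⊓ normalizer (V : Set G)) ≠ 1 := fun h =>
      hlt'.not_ge (relIndex_eq_one.1 h)
    have h2 : V.relIndex (U ⊓ normalizer (V : Set G)) ≠ 0 := index_ne_zero_of_finite
    have h3 : (U ⊓ normalizer (V : Set G)).relIndex U ≠ 0 := index_ne_zero_of_finite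
    exact lt_mul_of_one_lt_left (Nat.pos_of_ne_zero h3) (by omega)
  · have h1 := ((isCharP_normalizer_iff_centralizer (hU.to_le hVU)).2 hV).inf_centralizer
      (P := U ⊓ normalizer (V : Set G)) hU.to_inf_left inf_le_right
    rwa [inf_eq_right.2 ((centralizer_le (SetLike.coe_subset_coe.2 hlt'.le)).trans
      (centralizer_le_normalizer _))] at h1

end CL.PLoc
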