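import Cfsg.Agent.Base
import Cfsg.Agent.Sig.CompLayer

/-!
# The diagonal of a family of commuting conjugates

If the conjugates of `L` under the elements of a finite subgroup `A` commute pairwise, then
`l ↦ ∏_{a ∈ A} a l a⁻¹` is a homomorphism `L → C_G(A)` with central kernel.
-/

set_option autoImplicit false

open Cfsg Subgroup
open scoped commutatorElement

namespace CL.PLoc

variable {G : Type*} [Group G]

theorem exists_diag_hom (A L : Subgroup G) [Finite A]
    (hcomm : ∀ a ∈ A, a ≠ 1 → ⁅L, L.map (MulAut.conj a).toMonoidHom⁆ = ⊥) :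
    ∃ π : L →* G, (∀ l, π l ∈ centralizer (A : Set G)) ∧ π.ker ≤ center L ∧
      (∀ y ∈ centralizer (A : Set G), ∀ l l' : L, (l' : G) = y * l * y⁻¹ →
        π l' = y * π l * y⁻¹) ∧
      (∀ l, π l ∈ ⨆ a : A, L.map (MulAut.conj (a : G)).toMonoidHom) ∧
      (∀ l l' : L, ⁅π l, (l' : G)⁆ = ⁅(l : G), (l' : G)⁆) := by
  classical
  have := Fintype.ofFinite A
  let ϕ : A → (L →* G) := fun a => (MulAut.conj (a : G)).toMonoidHom.comp L.subtype
  have hϕ : ∀ (a : A) (l : L), ϕ a l = a * l * (a : G)⁻¹ := fun a l => rfl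
  have hc : Pairwise fun a b : A => ∀ x y, Commute (ϕ a x) (ϕ b y) := by
    intro a b hab x y
    have h1 : ((a⁻¹ * b : A) : G) ≠ 1 := fun h =>
      hab (inv_mul_eq_one.1 (Subtype.ext h))
    have h2 := Sig.commute_of_commutator_eq_bot (hcomm _ (a⁻¹ * b).2 h1) x.2
      (mem_map_of_mem _ y.2)
    have h3 := congrArg (MulAut.conj (a : G)) h2
    rw [map_mul, map_mul] at h3
    have h4 : MulAut.conj (a : G) ((MulAut.conj ((a⁻¹ * b : A) : G)).toMonoidHom (y : G)) =
        ϕ b y := by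
      rw [hϕ]; simp [mul_assoc]
    rw [h4] at h3
    exact h3
  let Φ := MonoidHom.noncommPiCoprod (N := fun _ : A => L) ϕ hc
  have hΦ : ∀ (a : A) (l : L), Φ (Pi.mulSingle a l : A → L) = ϕ a l := fun a l =>
    MonoidHom.noncommPiCoprod_mulSingle (N := fun _ : A => L) ϕ a l
  have key : ∀ (g : G) (σ : A ≃ A) (τ : L →* L),
      (∀ a l, g * ϕ a l * g⁻¹ = ϕ (σ a) (τ l)) →
      ∀ l : L, g * Φ (fun _ => l) * g⁻¹ = Φ (fun _ => τ l) := by
    intro g σ τ h l
    let S : (A → L) →* (A → L) :=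
      { toFun := fun f a => τ (f (σ.symm a))
        map_one' := by ext; simp
        map_mul' := by intro f f'; ext; simp }
    have h1 : (MulAut.conj g).toMonoidHom.comp Φ = Φ.comp S := by
      refine MonoidHom.pi_ext fun a x => ?_
      have h2 : S (Pi.mulSingle a x) = Pi.mulSingle (σ a) (τ x) := by
        funext b
        show τ ((Pi.mulSingle a x : A → L) (σ.symm b)) = _
        by_cases hb : b = σ a
        · subst hb; simp
        · have : σ.symm b ≠ a := fun e => hb (by rw [← e]; simp)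
          rw [Pi.mulSingle_eq_of_ne this, Pi.mulSingle_eq_of_ne hb, map_one]
      rw [MonoidHom.comp_apply, MonoidHom.comp_apply, h2, hΦ, hΦ, ← h]
      rfl
    exact DFunLike.congr_fun h1 (fun _ => l)
  have hcm : ∀ l l' : L, ⁅Φ (fun _ => l), (l' : G)⁆ = ⁅(l : G), (l' : G)⁆ := by
    intro l l'
    have h1 : (l' : G) = Φ (Pi.mulSingle 1 l') := by rw [hΦ, hϕ]; simp
    have h2 : ⁅(fun _ => l : A → L), (Pi.mulSingle 1 l' : A → L)⁆ =
        (Pi.mulSingle 1 ⁅l, l'⁆ : A → L) := by
      funext b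
      show ⁅l, (Pi.mulSingle 1 l' : A → L) b⁆ = _
      by_cases hb : b = 1
      · subst hb; simp
      · rw [Pi.mulSingle_eq_of_ne hb, Pi.mulSingle_eq_of_ne hb, commutatorElement_one_right]
    calc ⁅Φ (fun _ => l), (l' : G)⁆ = Φ ⁅(fun _ => l : A → L), Pi.mulSingle 1 l'⁆ := by
          rw [map_commutatorElement, ← h1]
      _ = _ := by rw [h2, hΦ, hϕ]; simp [commutatorElement_def]
  refine ⟨Φ.comp (MonoidHom.pi fun _ => MonoidHom.id L), fun l a ha => ?_, fun l hl => ?_,
    fun y hy l l' hl' => ?_, fun l => ?_, hcm⟩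
  · have := key a (Equiv.mulLeft ⟨a, ha⟩) (MonoidHom.id L) (fun b x => by
      rw [hϕ, hϕ]; simp [mul_assoc]) l
    exact mul_inv_eq_iff_eq_mul.1 this
  · rw [mem_center_iff]
    intro l'
    have h1 := hcm l l'
    have h2 : Φ (fun _ => l) = 1 := hl
    rw [h2, commutatorElement_one_left] at h1
    exact Subtype.ext (commutatorElement_eq_one_iff_mul_comm.1 h1.symm).symm
  · show Φ (fun _ => l') = (MulAut.conj y).toMonoidHom (Φ (fun _ => l))
    rw [MonoidHom.noncommPiCoprod_apply, MonoidHom.noncommPiCoprod_apply, Finset.map_noncommProd]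
    refine Finset.noncommProd_congr rfl (fun a _ => ?_) _
    rw [hϕ, hϕ, hl']
    have h2 : (a : G) * y = y * a := hy a a.2
    show _ = y * (a * l * (a : G)⁻¹) * y⁻¹
    calc (a : G) * (y * l * y⁻¹) * (a : G)⁻¹ = (a * y) * l * (a * y)⁻¹ := by group
      _ = _ := by rw [h2]; group
  · show Φ (fun _ => l) ∈ _
    rw [MonoidHom.noncommPiCoprod_apply]
    refine Subgroup.noncommProd_mem _ _ fun a _ => ?_
    exact mem_iSup_of_mem a (mem_map_of_mem _ l.2)

end CL.PLoc
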