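import Cfsg.Agent.Base
import Cfsg.Agent.PLoc.OpE
import Cfsg.Agent.PLoc.Diag

/-!
# `O_{p',E}(N_G(P))` fixes the components of `G` when `O_{p'}(G) = 1` (Aschbacher 31.17, 31.18)
-/

set_option autoImplicit false

open Cfsg Subgroup CL.Transfer
open scoped commutatorElement Pointwise

namespace CL.PLoc

variable {G : Type*} [Group G] {p : ℕ}

theorem mem_of_pow_mem_of_coprime {H : Subgroup G} {x : G} {n : ℕ} (hn : x ^ n ∈ H)
    (h : n.Coprime (orderOf x)) : x ∈ H := by
  obtain ⟨m, hm⟩ := exists_pow_eq_self_of_coprime h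
  rw [← hm]; exact pow_mem hn m

theorem conj_pow_smul_eq {x u : G} (hxu : Commute x u) {L : Subgroup G}
    (h : MulAut.conj x • L = MulAut.conj u • L) (n : ℕ) :
    MulAut.conj (x ^ n) • L = MulAut.conj (u ^ n) • L := by
  induction n with
  | zero => simp
  | succ n ih =>
    rw [pow_succ, ← conj_smul_conj_smul, h, conj_smul_conj_smul, (hxu.pow_left n).eq,
      ← conj_smul_conj_smul, ih, conj_smul_conj_smul, ← pow_succ']

theorem mul_pow_eq_one_of_commute {a b : G} (hab : Commute a b) {i j : ℕ} (ha : a ^ p ^ i = 1)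
    (hb : b ^ p ^ j = 1) : (a * b) ^ p ^ (i + j) = 1 := by
  rw [hab.mul_pow, pow_add, pow_mul, ha, one_pow, one_mul, mul_comm, pow_mul, hb, one_pow]

variable [Finite G] [hp : Fact p.Prime]

/-- The centre of a product of components lies in `O_p(G)` when `O_{p'}(G) = 1`. -/
theorem inf_centralizer_le_pCore (hO : pPrimeCore p G = ⊥) {K : Subgroup G}
    (hK : K.IsSubnormal) : K ⊓ centralizer (K : Set G) ≤ pCore p G := by
  rw [← fitting_eq_pCore hO, ← Sig.map_center_subtype]
  exact Sig.le_fitting_of_subnormal (Sig.isSubnormal_map_subtype_of_normal hK _)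
    (Sig.isNilpotent_map_subtype
      ⟨⟨1, Subgroup.upperCentralSeries_one_eq_top_iff.2 inferInstance⟩⟩)

/-- The key step of Aschbacher (31.17). -/
theorem mem_normalizer_component_of_coprime (hO : pPrimeCore p G = ⊥) {P : Subgroup G}
    (hP : IsPGroup p P) (hQP : pCore p G ≤ P) {L : Subgroup G} (hL : IsComponent L) {x : G}
    (hx : (orderOf x).Coprime p) (hxP : x ∈ centralizer (P : Set G))
    (h : ∀ y ∈ layer G, y ∈ normalizer (P : Set G) → (orderOf ⁅x, y⁆).Coprime p) :
    x ∈ normalizer (L : Set G) := by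
  by_cases hcase : ∃ u ∈ P, MulAut.conj x • L = MulAut.conj u • L
  · obtain ⟨u, hu, hxu⟩ := hcase
    obtain ⟨k, hk⟩ := hP ⟨u, hu⟩
    have hk' : u ^ p ^ k = 1 := congrArg Subtype.val hk
    have h1 := conj_pow_smul_eq (show Commute x u from (hxP u hu).symm) hxu (p ^ k)
    rw [hk', conj_one_smul, conj_smul_eq_iff_mem_normalizer] at h1
    exact mem_of_pow_mem_of_coprime h1 (hx.symm.pow_left k)
  exfalso
  push Not at hcase
  -- `K` is generated by the `P`-orbit of `L`
  set K : Subgroup G := ⨆ u : P, MulAut.conj (u : G) • L with hK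
  have hcomp : ∀ g : G, IsComponent (MulAut.conj g • L) := fun g => Sig.component_conj hL g
  have hKE : K ≤ layer G := iSup_le fun u => Sig.component_le_layer (hcomp u)
  have hLK : L ≤ K := by
    have := le_iSup (fun u : P => MulAut.conj (u : G) • L) 1
    simpa using this
  have hEK : layer G ≤ normalizer (K : Set G) :=
    Sig.le_normalizer_sSup (by
      rintro _ ⟨u, rfl⟩
      exact Sig.layer_le_normalizer_component (hcomp u))
  have hKsn : K.IsSubnormal :=
    Sig.isSubnormal_of_le_normalizer hKE hEK (Normal.isSubnormal inferInstance)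
  have hPK : P ≤ normalizer (K : Set G) := by
    intro v hv
    apply mem_normalizer_of_conj_smul_le
    rw [hK, conj_smul_eq_map, Subgroup.map_iSup]
    refine iSup_le fun u => ?_
    rw [← conj_smul_eq_map, conj_smul_conj_smul]
    exact le_iSup (fun u : P => MulAut.conj (u : G) • L) ⟨v * u, mul_mem hv u.2⟩
  have hKx : MulAut.conj x • K ≤ centralizer (K : Set G) := by
    rw [hK, conj_smul_eq_map, Subgroup.map_iSup]
    refine iSup_le fun u => le_centralizer_iff.1 (iSup_le fun v => ?_)
    rw [← commutator_eq_bot_iff_le_centralizer, ← conj_smul_eq_map, conj_smul_conj_smul]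
    refine Sig.component_commute (hcomp _) (hcomp _) fun e => hcase (u⁻¹ * v : P) (u⁻¹ * v).2 ?_
    have e1 : (u : G) * x = x * u := hxP u u.2
    rw [← e1, ← conj_smul_conj_smul] at e
    rw [Subgroup.coe_mul, ← conj_smul_conj_smul, e, Subgroup.coe_inv, conj_inv_smul_conj_smul]
  have hZ : K ⊓ centralizer (K : Set G) ≤ P := (inf_centralizer_le_pCore hO hKsn).trans hQP
  -- a `P`-invariant Sylow `p`-subgroup `D` of `K`
  obtain ⟨S, hS⟩ := hP.exists_le_sylow
  have hD : IsSylowIn p ((S : Subgroup G) ⊓ layer G ⊓ K) K :=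
    (isSylowIn_inf_normal S (layer G)).inf_normal hKE hEK
  set D := (S : Subgroup G) ⊓ layer G ⊓ K with hDdef
  have hDC : ¬ D ≤ centralizer (K : Set G) := by
    intro hDC
    obtain ⟨l, hl, ⟨k, hk⟩, hlC⟩ := exists_p_elem_not_mem_centralizer
      (Sig.component_commutator_self hL) (dvd_card_component hO hL)
    obtain ⟨g, hg, hgl⟩ := hD.exists_conj_le (isPGroup_zpowers hk) (zpowers_le.2 (hLK hl))
    have h1 : g * l * g⁻¹ ∈ centralizer (K : Set G) :=
      hDC (hgl (conj_mem_conj_smul.2 (mem_zpowers l)))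
    have h2 := (mem_normalizer_iff.1
      (Sig.normalizer_le_normalizer_centralizer' K (le_normalizer hg)) l).2 h1
    exact hlC (centralizer_le (SetLike.coe_subset_coe.2 hLK) h2)
  have hfix : ∀ s ∈ K, x * s * x⁻¹ = s → s ∈ centralizer (K : Set G) := by
    intro s hs e
    rw [← e]
    exact hKx (conj_mem_conj_smul.2 hs)
  have hDP : ¬ D ≤ P := by
    intro hDP
    refine hDC fun s hs => hfix s hs.2 ?_
    rw [← hxP s (hDP hs), mul_inv_cancel_right]
  have hPD : P ≤ normalizer (D : Set G) :=
    Sig.le_normalizer_inf (Sig.le_normalizer_inf (hS.trans le_normalizer)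
      (by rw [normalizer_eq_top]; exact le_top)) hPK
  have hlt : P < P ⊔ D := left_lt_sup.2 hDP
  have hPDp : IsPGroup p (P ⊔ D : Subgroup G) :=
    S.isPGroup'.to_le (sup_le hS (inf_le_left.trans inf_le_left))
  obtain ⟨g, ⟨hg1, hg2⟩, hgP⟩ := SetLike.exists_of_lt (lt_inf_normalizer hPDp hlt)
  obtain ⟨u, hu, s, hs, rfl⟩ := (Sig.mem_sup_of_le_normalizer_right hPD).1 hg1
  have hsN : s ∈ normalizer (P : Set G) := (mul_mem_cancel_left (le_normalizer hu)).1 hg2
  have hsP : s ∉ P := fun h => hgP (mul_mem hu h)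
  obtain ⟨k, hk⟩ := hD.isPGroup ⟨s, hs⟩
  have hk' : s ^ p ^ k = 1 := congrArg Subtype.val hk
  have h1 : Commute (x * s * x⁻¹) s⁻¹ :=
    (hKx (conj_mem_conj_smul.2 hs.2) s⁻¹ (inv_mem hs.2)).symm
  have h2 : ⁅x, s⁆ ^ p ^ (k + k) = 1 :=
    mul_pow_eq_one_of_commute h1 (by rw [conj_pow, hk']; simp) (by rw [inv_pow, hk', inv_one])
  have h3 := eq_one_of_pow_eq_one_of_coprime h2 (h s hs.1.2 hsN)
  exact hsP (hZ ⟨hs.2, hfix s hs.2 (mul_inv_eq_one.1 h3)⟩)

theorem opEOf_normalizer_le_normalizer_component_aux (hO : pPrimeCore p G = ⊥) {P : Subgroup G}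
    (hP : IsPGroup p P) (hQP : pCore p G ≤ P) {L : Subgroup G} (hL : IsComponent L) :
    opEOf p (normalizer (P : Set G)) ≤ normalizer (L : Set G) := by
  set N := normalizer (P : Set G) with hN
  have hC : opEOf p N ≤ centralizer (P : Set G) := opEOf_le_centralizer hP le_normalizer le_rfl
  have key : ∀ x : N, x ∈ opE p N → (orderOf x).Coprime p →
      (∀ y : N, (y : G) ∈ layer G → ⁅x, y⁆ ∈ pPrimeCore p N) →
      (x : G) ∈ normalizer (L : Set G) := by
    intro x hx ho h
    refine mem_normalizer_component_of_coprime hO hP hQP hL (by rwa [orderOf_coe])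
      (hC ⟨x, hx, rfl⟩) fun y hy hyN => ?_
    have h1 := Nat.Coprime.coprime_dvd_left (orderOf_dvd_natCard _ (h ⟨y, hyN⟩ hy))
      PComp.coprime_card_pPrimeCore'
    rwa [← orderOf_coe] at h1
  have hO' : pPrimeCore p N ≤ (normalizer (L : Set G)).subgroupOf N := by
    intro x hx
    exact key x (pPrimeCore_le_opE hx)
      (Nat.Coprime.coprime_dvd_left (orderOf_dvd_natCard _ hx) PComp.coprime_card_pPrimeCore')
      fun y _ => commutator_le_left _ ⊤ (commutator_mem_commutator hx (mem_top y))
  rw [map_le_iff_le_comap]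
  refine opE_le_of_components hO' fun J hJ x hx ho => ?_
  have hY : (((layer G).subgroupOf N).map (QuotientGroup.mk' (pPrimeCore p N))).Normal :=
    Normal.map inferInstance _ (QuotientGroup.mk'_surjective _)
  rcases Sig.component_le_or_commute hJ hY.isSubnormal with h | h
  · have h1 : x ∈ (((layer G).subgroupOf N).map (QuotientGroup.mk' (pPrimeCore p N))).comap
        (QuotientGroup.mk' (pPrimeCore p N)) := h hx
    rw [comap_map_eq, QuotientGroup.ker_mk'] at h1
    exact sup_le (comap_mono (Sig.layer_le_normalizer_component hL)) hO' h1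
  · refine key x (Sig.component_le_layer hJ hx) ho fun y hy => ?_
    rw [← QuotientGroup.eq_one_iff, ← QuotientGroup.mk'_apply, map_commutatorElement]
    exact commutatorElement_eq_one_iff_mul_comm.2
      (Sig.commute_of_commutator_eq_bot h hx (mem_map_of_mem _ hy))

/-- If `O_{p',E}(N_G(P))` centralizes a `p`-subgroup `Q` normalized by `N_G(P)`, it lies in
`O_{p',E}(N_G(PQ))`. -/
theorem opEOf_normalizer_le_opEOf_normalizer_sup {P Q : Subgroup G} (hP : IsPGroup p P)
    (hn : normalizer (P : Set G) ≤ normalizer (Q : Set G))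
    (hC : opEOf p (normalizer (P : Set G)) ≤ centralizer (Q : Set G)) :
    opEOf p (normalizer (P : Set G)) ≤ opEOf p (normalizer ((P ⊔ Q : Subgroup G) : Set G)) := by
  have h1 : centralizer ((P ⊔ Q : Subgroup G) : Set G) ≤ normalizer (P : Set G) :=
    (centralizer_le (SetLike.coe_subset_coe.2 le_sup_left)).trans (centralizer_le_normalizer _)
  refine (opEOf_le_opEOf_of_le h1 (normal_subgroupOf_of_le_normalizer ?_).isSubnormal ?_).trans
    (opEOf_centralizer_le_opEOf_normalizer _)
  · exact (Sig.le_normalizer_sup le_rfl hn).trans (Sig.normalizer_le_normalizer_centralizer' _)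
  · exact le_centralizer_iff.1 (sup_le
      (le_centralizer_iff.1 (opEOf_le_centralizer hP le_normalizer le_rfl))
      (le_centralizer_iff.1 hC))

/-- Aschbacher (31.17): if `O_{p'}(G) = 1` then `O_{p',E}(N_G(P))` normalizes every component. -/
theorem opEOf_normalizer_le_normalizer_component (hO : pPrimeCore p G = ⊥) {P : Subgroup G}
    (hP : IsPGroup p P) {L : Subgroup G} (hL : IsComponent L) :
    opEOf p (normalizer (P : Set G)) ≤ normalizer (L : Set G) :=
  (opEOf_normalizer_le_opEOf_normalizer_sup hP (by rw [normalizer_eq_top (pCore p G)]; exact le_top)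
    (opEOf_normalizer_le_centralizer_pCore hP)).trans
    (opEOf_normalizer_le_normalizer_component_aux hO (hP.to_sup_of_normal_right isPGroup_pCore)
      le_sup_right hL)

theorem opEOf_centralizer_le_normalizer_component (hO : pPrimeCore p G = ⊥) {P : Subgroup G}
    (hP : IsPGroup p P) {L : Subgroup G} (hL : IsComponent L) :
    opEOf p (centralizer (P : Set G)) ≤ normalizer (L : Set G) :=
  (opEOf_centralizer_le_opEOf_normalizer P).trans (opEOf_normalizer_le_normalizer_component hO hP hL)

theorem centralizerPPrimeCore_le_normalizer_component (hO : pPrimeCore p G = ⊥) {x : G}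
    (hx : orderOf x = p) {L : Subgroup G} (hL : IsComponent L) :
    centralizerPPrimeCore p x ≤ normalizer (L : Set G) := by
  rw [PComp.centralizerPPrimeCore_eq, ← centralizer_zpowers]
  exact (ppCore_le_opEOf _).trans
    (opEOf_centralizer_le_normalizer_component hO (isPGroup_zpowers_of_orderOf hx) hL)

theorem centralizerPPrimeCore_le_centralizer_pCore {x : G} (hx : orderOf x = p) :
    centralizerPPrimeCore p x ≤ centralizer (pCore p G : Set G) := by
  rw [PComp.centralizerPPrimeCore_eq, ← centralizer_zpowers]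
  exact ppCore_centralizer_le_centralizer_pCore (isPGroup_zpowers_of_orderOf hx)

/-- If a `p`-group `A` permutes the conjugates of a component `L` semiregularly, then
`O_{p'}(C_G(A))` centralizes `L`. -/
theorem component_commute_ppCore_of_semiregular (hO : pPrimeCore p G = ⊥) {A : Subgroup G}
    (hA : IsPGroup p A) {L : Subgroup G} (hL : IsComponent L)
    (h : ∀ a ∈ A, a ≠ 1 → a ∉ normalizer (L : Set G)) :
    ⁅L, PComp.ppCore p (centralizer (A : Set G))⁆ = ⊥ := by
  set Y := PComp.ppCore p (centralizer (A : Set G)) with hY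
  have hYL : Y ≤ normalizer (L : Set G) :=
    (ppCore_le_opEOf _).trans (opEOf_centralizer_le_normalizer_component hO hA hL)
  obtain ⟨π, hπC, hπker, hπy, -, -⟩ := exists_diag_hom A L fun a ha ha1 =>
    Sig.component_commute hL (Sig.component_conj hL a) fun e =>
      h a ha ha1 (Sig.map_conj_eq_self_iff.1 e.symm)
  refine (Sig.component_le_commutator_self_or_commute hL Y).resolve_left fun hle => ?_
  have h1 : ⁅L, Y⁆ ≤ (Y.comap π).map L.subtype := by
    rw [commutator_le]
    intro l hl y hy
    have hl' : y * l⁻¹ * y⁻¹ ∈ L := (mem_normalizer_iff.1 (hYL hy) _).1 (inv_mem hl)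
    refine ⟨⟨l, hl⟩ * ⟨_, hl'⟩, ?_, by simp [commutatorElement_def, mul_assoc]⟩
    show π _ ∈ Y
    rw [map_mul, hπy y (PComp.ppCore_le _ hy) ⟨l, hl⟩⁻¹ ⟨_, hl'⟩ rfl, map_inv, ← mul_assoc,
      ← mul_assoc]
    exact mul_mem ((mem_normalizer_iff.1 (PComp.le_normalizer_ppCore _ (hπC _)) y).1 hy)
      (inv_mem hy)
  obtain ⟨l, hl, ⟨k, hk⟩, hlC⟩ := exists_p_elem_not_mem_centralizer
    (Sig.component_commutator_self hL) (dvd_card_component hO hL)
  obtain ⟨l', hl', rfl⟩ := h1 (hle hl)
  have h2 : π l' = 1 := by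
    refine eq_one_of_pow_eq_one_of_coprime (p := p) (k := k) ?_
      (Nat.Coprime.coprime_dvd_left (orderOf_dvd_natCard Y hl') (PComp.coprime_card_ppCore _))
    rw [← map_pow, show l' ^ p ^ k = 1 from Subtype.ext hk, map_one]
  exact hlC fun y hy => congrArg Subtype.val (mem_center_iff.1 (hπker h2) ⟨y, hy⟩)

/-- If `O_{p'}(G) = 1` and the component `L` centralizes `A`, then it centralizes
`O_{p'}(C_G(A))`. -/
theorem component_commute_ppCore_of_le (hO : pPrimeCore p G = ⊥) {L H : Subgroup G}
    (hL : IsComponent L) (h : L ≤ H) : ⁅L, PComp.ppCore p H⁆ = ⊥ := by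
  refine (Sig.component_le_or_commute_of_normalizes hL
    (h.trans (PComp.le_normalizer_ppCore H))).resolve_left fun hle => ?_
  exact hp.out.one_lt.ne' (Nat.Coprime.eq_one_of_dvd
    (PComp.coprime_card_of_le hle (PComp.coprime_card_ppCore H)).symm (dvd_card_component hO hL))

/-- Aschbacher (31.18): let `O_{p'}(G) = 1`, `x` of order `p` and `L` a component not centralized
by `O_{p'}(C_G(x))`. Then `x` normalizes `L` and does not centralize it. -/
theorem normalizes_of_not_commute_centralizerPPrimeCore (hO : pPrimeCore p G = ⊥) {x : G}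
    (hx : orderOf x = p) {L : Subgroup G} (hL : IsComponent L)
    (h : ⁅L, centralizerPPrimeCore p x⁆ ≠ ⊥) :
    x ∈ normalizer (L : Set G) ∧ x ∉ centralizer (L : Set G) := by
  constructor
  · by_contra hxL
    apply h
    rw [PComp.centralizerPPrimeCore_eq, ← centralizer_zpowers]
    refine component_commute_ppCore_of_semiregular hO (isPGroup_zpowers_of_orderOf hx) hL ?_
    intro a ha ha1 haL
    apply hxL
    have hc : Nat.card (zpowers x) = p := by rw [Nat.card_zpowers, hx]
    have h1 : zpowers a ≤ zpowers x := zpowers_le.2 ha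
    have h2 : Nat.card (zpowers a) ∣ p := hc ▸ card_dvd_of_le h1
    rcases (Nat.dvd_prime hp.out).1 h2 with h3 | h3
    · exact absurd (orderOf_eq_one_iff.1 (by rwa [Nat.card_zpowers] at h3)) ha1
    · have h4 := eq_of_le_of_card_ge h1 (by rw [h3, hc])
      exact (zpowers_le.2 haL) (h4 ▸ mem_zpowers x)
  · intro hxC
    apply h
    refine component_commute_ppCore_of_le hO hL ?_
    rw [← centralizer_zpowers, zpowers_le_centralizer_iff]
    exact hxC

theorem component_commute_centralizerPPrimeCore (hO : pPrimeCore p G = ⊥) {x : G}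
    (hx : orderOf x = p) {L : Subgroup G} (hL : IsComponent L) (hne : ⁅L, zpowers x⁆ ≠ L) :
    ⁅L, centralizerPPrimeCore p x⁆ = ⊥ := by
  by_contra h
  obtain ⟨h1, h2⟩ := normalizes_of_not_commute_centralizerPPrimeCore hO hx hL h
  rcases Sig.component_le_commutator_self_or_commute hL (zpowers x) with h3 | h3
  · exact hne (le_antisymm (le_normalizer_iff_commutator_le_left.1 (zpowers_le.2 h1)) h3)
  · exact h2 (zpowers_le_centralizer_iff.1 (commutator_eq_bot_iff_le_centralizer.1 h3))

/-- If `O_{p'}(G) = 1`, a `p'`-subgroup centralizing `O_p(G)` and every component is trivial. -/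
theorem eq_bot_of_centralizes (hO : pPrimeCore p G = ⊥) {Y : Subgroup G}
    (hY : (Nat.card Y).Coprime p) (h1 : Y ≤ centralizer (pCore p G : Set G))
    (h2 : ∀ L : Subgroup G, IsComponent L → ⁅L, Y⁆ = ⊥) : Y = ⊥ := by
  refine eq_bot_of_isPGroup_of_coprime (isPGroup_pCore.to_le ?_) hY
  rw [← fitting_eq_pCore hO] at h1 ⊢
  refine le_trans ?_ Sig.centralizer_genFitting_le_fitting
  rw [le_centralizer_iff] at h1 ⊢
  exact sup_le (commutator_eq_bot_iff_le_centralizer.1 (Sig.layer_commute_of_forall h2)) h1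

/-- If `O_{p'}(G) = 1`, `x` has order `p` and `1 ≠ Y ≤ O_{p'}(C_G(x))`, some component is not
centralized by `Y`. -/
theorem exists_component_not_commute (hO : pPrimeCore p G = ⊥) {x : G} (hx : orderOf x = p)
    {Y : Subgroup G} (hY : Y ≤ centralizerPPrimeCore p x) (hY1 : Y ≠ ⊥) :
    ∃ L : Subgroup G, IsComponent L ∧ ⁅L, Y⁆ ≠ ⊥ := by
  by_contra h
  push Not at h
  exact hY1 (eq_bot_of_centralizes hO (PComp.coprime_card_of_le hY (PComp.coprime_card_ppCore _))
    (hY.trans (centralizerPPrimeCore_le_centralizer_pCore hx)) h)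

end CL.PLoc
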