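import Cfsg.Agent.Base
import Cfsg.Agent.PLoc.CompNorm
import Cfsg.Agent.Solv.Coprime

/-!
# Balance: passing `O_{p'}(C(x))` to quotients and to automizers of components
-/

set_option autoImplicit false

open Cfsg Subgroup CL.Transfer
open scoped commutatorElement Pointwise

namespace CL.PLoc

variable {G : Type*} [Group G] {p : ℕ}

theorem centralizerPPrimeCore_le (x : G) : centralizerPPrimeCore p x ≤ centralizer {x} :=
  map_subtype_le _

theorem coprime_card_centralizerPPrimeCore [Finite G] (x : G) :
    (Nat.card (centralizerPPrimeCore p x)).Coprime p := PComp.coprime_card_ppCore _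

theorem centralizer_le_normalizer_centralizerPPrimeCore (x : G) :
    centralizer {x} ≤ normalizer ((centralizerPPrimeCore p x : Subgroup G) : Set G) :=
  PComp.le_normalizer_ppCore _

theorem map_centralizer_singleton_equiv {G' : Type*} [Group G'] (e : G ≃* G') (x : G) :
    (centralizer {x}).map e.toMonoidHom = centralizer {e x} := by
  ext y
  obtain ⟨y, rfl⟩ := e.surjective y
  rw [show e y = e.toMonoidHom y from rfl, mem_map_iff_mem e.injective,
    mem_centralizer_singleton_iff, mem_centralizer_singleton_iff]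
  show _ ↔ e y * e x = e x * e y
  rw [← map_mul, ← map_mul, e.apply_eq_iff_eq]

theorem map_centralizerPPrimeCore_equiv {G' : Type*} [Group G'] (e : G ≃* G') (x : G) :
    (centralizerPPrimeCore p x).map e.toMonoidHom = centralizerPPrimeCore p (e x) := by
  rw [PComp.centralizerPPrimeCore_eq, PComp.centralizerPPrimeCore_eq,
    PComp.map_ppCore_of_injective e.injective, map_centralizer_singleton_equiv]

theorem conj_smul_centralizerPPrimeCore (g x : G) :
    MulAut.conj g • centralizerPPrimeCore p x = centralizerPPrimeCore p (g * x * g⁻¹) :=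
  map_centralizerPPrimeCore_equiv (MulAut.conj g) x

/-- `O_{p'}(C_G(x)) ∩ H ≤ O_{p'}(C_H(x))`. -/
theorem subgroupOf_centralizerPPrimeCore_le [Finite G] {H : Subgroup G} (x : H) :
    (centralizerPPrimeCore p (x : G)).subgroupOf H ≤ centralizerPPrimeCore p x := by
  refine PComp.le_ppCore ?_ ?_ ?_
  · intro y hy
    have := centralizerPPrimeCore_le (x : G) hy
    rw [mem_centralizer_singleton_iff] at this ⊢
    exact Subtype.ext this
  · refine le_trans ?_ (le_normalizer_comap _)
    intro y hy
    refine centralizer_le_normalizer_centralizerPPrimeCore (x : G) ?_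
    rw [mem_centralizer_singleton_iff] at hy ⊢
    exact congrArg Subtype.val hy
  · exact Nat.Coprime.coprime_dvd_left (card_comap_dvd_of_injective _ _ H.subtype_injective)
      (coprime_card_centralizerPPrimeCore _)

variable [Finite G] [hp : Fact p.Prime]

/-- Centralizers of `p`-subgroups pass to quotients by `p'`-subgroups. -/
theorem map_centralizer_of_coprime_ker {Q : Type*} [Group Q] {f : G →* Q}
    (hf : Function.Surjective f) (hk : (Nat.card f.ker).Coprime p) {P : Subgroup G}
    (hP : IsPGroup p P) :
    (centralizer (P : Set G)).map f = centralizer ((P.map f : Subgroup Q) : Set Q) := by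
  have := hP.isNilpotent
  have h := CL.map_inf_centralizer_of_coprime f (A := P) (K := ⊤)
    (by rw [normalizer_eq_top]; exact le_top)
    (by rw [top_inf_eq]; exact coprime_card_of_isPGroup hP hk) (Or.inl inferInstance)
  rwa [top_inf_eq, map_top_of_surjective f hf, top_inf_eq] at h

/-- Normalizers of `p`-subgroups pass to quotients by `p'`-subgroups. -/
theorem map_normalizer_of_coprime_ker {Q : Type*} [Group Q] {f : G →* Q}
    (hf : Function.Surjective f) (hk : (Nat.card f.ker).Coprime p) {P : Subgroup G}
    (hP : IsPGroup p P) :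
    (normalizer (P : Set G)).map f = normalizer ((P.map f : Subgroup Q) : Set Q) := by
  refine le_antisymm (le_normalizer_map f) fun y hy => ?_
  obtain ⟨g, rfl⟩ := hf y
  have hg : g ∈ normalizer ((P ⊔ f.ker : Subgroup G) : Set G) := by
    rw [← comap_map_eq]
    exact le_normalizer_comap f hy
  have hS : IsSylowIn p P (P ⊔ f.ker) :=
    ⟨le_sup_left, hP, fun hd => hp.out.one_lt.ne'
      (Nat.Coprime.eq_one_of_dvd hk.symm (hd.trans (PComp.relIndex_sup_dvd_card P f.ker)))⟩
  obtain ⟨n, hn, hng⟩ := hS.frattini_argument hg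
  obtain ⟨u, hu, k, hk, rfl⟩ := (Sig.mem_sup_of_le_normalizer_right
    (by rw [normalizer_eq_top]; exact le_top)).1 hn
  refine ⟨k * g, ?_, by rw [map_mul, (MonoidHom.mem_ker).1 hk, one_mul]⟩
  rw [mul_assoc] at hng
  exact (mul_mem_cancel_left (le_normalizer hu)).1 hng

theorem map_centralizer_singleton_of_coprime_ker {Q : Type*} [Group Q] {f : G →* Q}
    (hf : Function.Surjective f) (hk : (Nat.card f.ker).Coprime p) {x : G} {k : ℕ}
    (hx : x ^ p ^ k = 1) : (centralizer {x}).map f = centralizer {f x} := by
  rw [← centralizer_zpowers, map_centralizer_of_coprime_ker hf hk (isPGroup_zpowers hx),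
    MonoidHom.map_zpowers, centralizer_zpowers]

theorem map_centralizerPPrimeCore_of_coprime_ker {Q : Type*} [Group Q] {f : G →* Q}
    (hf : Function.Surjective f) (hk : (Nat.card f.ker).Coprime p) {x : G} {k : ℕ}
    (hx : x ^ p ^ k = 1) :
    (centralizerPPrimeCore p x).map f = centralizerPPrimeCore p (f x) := by
  rw [PComp.centralizerPPrimeCore_eq, PComp.centralizerPPrimeCore_eq,
    PComp.map_ppCore (PComp.coprime_card_of_le inf_le_left hk),
    map_centralizer_singleton_of_coprime_ker hf hk hx]

omit [Finite G] in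
theorem orderOf_map_of_coprime_ker {Q : Type*} [Group Q] {f : G →* Q}
    (hk : (Nat.card f.ker).Coprime p) {x : G} (hx : orderOf x = p) : orderOf (f x) = p := by
  refine orderOf_eq_prime (by rw [← map_pow, ← hx, pow_orderOf_eq_one, map_one]) fun h => ?_
  have := Nat.Coprime.coprime_dvd_left (orderOf_dvd_natCard f.ker h) hk
  rw [hx, Nat.coprime_self] at this
  exact hp.out.one_lt.ne' this

omit hp in
/-- If `Y ≤ O_{p'}(C_G(x))` centralizes a `p`-subgroup (indeed any subgroup) `P ∋ x` then
`Y ≤ O_{p'}(N_G(P))`. -/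
theorem centralizerPPrimeCore_le_ppCore_normalizer {x : G} {P : Subgroup G} (hxP : x ∈ P)
    (h : centralizerPPrimeCore p x ≤ centralizer (P : Set G)) :
    centralizerPPrimeCore p x ≤ PComp.ppCore p (normalizer (P : Set G)) :=
  (PComp.le_ppCore h ((centralizer_le (Set.singleton_subset_iff.2 hxP)).trans
    (centralizer_le_normalizer_centralizerPPrimeCore x))
    (coprime_card_centralizerPPrimeCore x)).trans
    (PComp.ppCore_le_ppCore_of_le_normalizer (centralizer_le_normalizer _)
      (Sig.normalizer_le_normalizer_centralizer' P))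

/-- Let `O_{p'}(G) = 1`, `L` a component, `x` of order `p`, `x ∈ U ≤ C_G(x) ∩ N_G(L)`, `H = L U`,
and `φ` a surjection from `H` whose kernel centralizes `L`. Then `φ` maps `O_{p'}(C_G(x)) ∩ H`
into `O_{p'}(C(φ x))`. -/
theorem map_mem_centralizerPPrimeCore (hO : pPrimeCore p G = ⊥) {L U H : Subgroup G}
    (hL : IsComponent L) {x : G} (hx : orderOf x = p) (hxU : x ∈ U) (hUx : U ≤ centralizer {x})
    (hUL : U ≤ normalizer (L : Set G)) (hH : H = L ⊔ U) {Q : Type*} [Group Q] (φ : H →* Q)
    (hφ : Function.Surjective φ) (hker : ∀ h ∈ φ.ker, (h : G) ∈ centralizer (L : Set G))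
    (hxH : x ∈ H) {y : H} (hy : (y : G) ∈ centralizerPPrimeCore p x) :
    φ y ∈ centralizerPPrimeCore p (φ ⟨x, hxH⟩) := by
  set Z := L ⊓ centralizer (L : Set G) with hZ
  have hNZ : normalizer (L : Set G) ≤ normalizer (Z : Set G) :=
    Sig.le_normalizer_inf le_rfl (Sig.normalizer_le_normalizer_centralizer' L)
  set P := zpowers x ⊔ Z with hP
  have hxP : x ∈ P := mem_sup_left (mem_zpowers x)
  have hYP : centralizerPPrimeCore p x ≤ centralizer (P : Set G) := by
    rw [le_centralizer_iff]
    refine sup_le ?_ ?_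
    · rw [le_centralizer_iff, centralizer_zpowers]; exact centralizerPPrimeCore_le x
    · exact (inf_centralizer_le_pCore hO hL.1).trans
        (le_centralizer_iff.1 (centralizerPPrimeCore_le_centralizer_pCore hx))
  set W := PComp.ppCore p (normalizer (P : Set G)) with hW
  have hyW : (y : G) ∈ W := centralizerPPrimeCore_le_ppCore_normalizer hxP hYP hy
  set D : Subgroup H := (centralizer {φ ⟨x, hxH⟩}).comap φ with hD
  have hLH : L ≤ H := hH ▸ le_sup_left
  have hUH : U ≤ H := hH ▸ le_sup_right
  have hUD : ∀ u (hu : u ∈ U), (⟨u, hUH hu⟩ : H) ∈ D := by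
    intro u hu
    rw [hD, mem_comap, mem_centralizer_singleton_iff, ← map_mul, ← map_mul]
    congr 1
    exact Subtype.ext (mem_centralizer_singleton_iff.1 (hUx hu))
  have hDP : ∀ d ∈ D, (d : G) ∈ normalizer (P : Set G) := by
    intro d hd
    obtain ⟨l, hl, u, hu, hlu⟩ := (Sig.mem_sup_of_le_normalizer_left hUL).1 (hH.le d.2)
    have hlD : (⟨l, hLH hl⟩ : H) ∈ D := by
      have : d = ⟨l, hLH hl⟩ * ⟨u, hUH hu⟩ := Subtype.ext hlu.symm
      rw [this] at hd
      exact (mul_mem_cancel_right (hUD u hu)).1 hd
    rw [← hlu]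
    refine mul_mem ?_ (Sig.le_normalizer_sup (H := U) ?_ (hUL.trans hNZ) hu)
    · apply mem_normalizer_of_conj_smul_le
      rw [hP, conj_smul_sup, conj_smul_eq_iff_mem_normalizer.2 (hNZ (le_normalizer hl))]
      refine sup_le ?_ le_sup_right
      rw [conj_smul_eq_map, MonoidHom.map_zpowers, zpowers_le]
      have h1 : ⁅l, x⁆ ∈ Z := by
        refine ⟨le_normalizer_iff_commutator_le_left.1 hUL (commutator_mem_commutator hl hxU),
          hker ⁅(⟨l, hLH hl⟩ : H), ⟨x, hxH⟩⁆ ?_⟩
        rw [MonoidHom.mem_ker, map_commutatorElement, commutatorElement_eq_one_iff_mul_comm]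
        exact mem_centralizer_singleton_iff.1 hlD
      show MulAut.conj l x ∈ _
      rw [conj_eq_commutatorElement_mul]
      exact mul_mem (mem_sup_right h1) hxP
    · refine le_trans ?_ (centralizer_le_normalizer _)
      rwa [centralizer_zpowers]
  have hyD : y ∈ D := by
    rw [hD, mem_comap, mem_centralizer_singleton_iff, ← map_mul, ← map_mul]
    congr 1
    exact Subtype.ext (mem_centralizer_singleton_iff.1 (centralizerPPrimeCore_le x hy))
  have hmap : D.map φ = centralizer {φ ⟨x, hxH⟩} := map_comap_eq_self_of_surjective hφ _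
  have h1 : (W.subgroupOf H ⊓ D).map φ ≤ centralizerPPrimeCore p (φ ⟨x, hxH⟩) := by
    refine PComp.le_ppCore (hmap ▸ map_mono inf_le_right) ?_ ?_
    · rw [← hmap]
      refine le_trans (map_mono (Sig.le_normalizer_inf ?_ le_normalizer)) (le_normalizer_map φ)
      exact fun d hd => le_normalizer_comap H.subtype (PComp.le_normalizer_ppCore _ (hDP d hd))
    · refine PComp.coprime_card_map φ (PComp.coprime_card_of_le inf_le_left ?_)
      exact Nat.Coprime.coprime_dvd_left (card_comap_dvd_of_injective _ _ H.subtype_injective)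
        (PComp.coprime_card_ppCore _)
  exact h1 ⟨y, ⟨hyW, hyD⟩, rfl⟩

/-- If `O_{p'}(G) = 1`, `L` is a component normalized by `H ≥ L` and `φ` is a surjection from `H`
with kernel `C_H(L)`, then the image has trivial `O_{p'}`. -/
theorem pPrimeCore_eq_bot_of_ker_eq (hO : pPrimeCore p G = ⊥) {L H : Subgroup G}
    (hL : IsComponent L) (hLH : L ≤ H) {Q : Type*} [Group Q] (φ : H →* Q)
    (hφ : Function.Surjective φ) (hker : φ.ker = (centralizer (L : Set G)).subgroupOf H) :
    pPrimeCore p Q = ⊥ := by
  have : Finite Q := Finite.of_surjective φ hφ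
  have hL' : IsComponent (L.subgroupOf H) := Sig.component_subgroupOf hL hLH
  have hN : ((pPrimeCore p Q).comap φ).Normal := inferInstance
  rcases Sig.component_le_or_commute hL' hN.isSubnormal with h | h
  · exfalso
    obtain ⟨l, hl, ⟨k, hk⟩, hlC⟩ := exists_p_elem_not_mem_centralizer
      (Sig.component_commutator_self hL) (dvd_card_component hO hL)
    have h1 : φ ⟨l, hLH hl⟩ ∈ pPrimeCore p Q := h (show (⟨l, hLH hl⟩ : H) ∈ L.subgroupOf H from hl)
    have h2 : φ ⟨l, hLH hl⟩ = 1 := by
      refine eq_one_of_pow_eq_one_of_coprime (p := p) (k := k) ?_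
        (Nat.Coprime.coprime_dvd_left (orderOf_dvd_natCard _ h1) PComp.coprime_card_pPrimeCore')
      rw [← map_pow, show (⟨l, hLH hl⟩ : H) ^ p ^ k = 1 from Subtype.ext hk, map_one]
    rw [← MonoidHom.mem_ker, hker] at h2
    exact hlC h2
  · rw [eq_bot_iff]
    intro q hq
    obtain ⟨g, rfl⟩ := hφ q
    rw [mem_bot, ← MonoidHom.mem_ker, hker]
    intro l hl
    exact congrArg Subtype.val
      (Sig.commute_of_commutator_eq_bot h (a := ⟨l, hLH hl⟩) hl (b := g) hq)

/-! ### The action on `L / Z(L)` -/

/-- Automorphisms of `L` act on `L / Z(L)`. -/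
def autQuotCenter (L : Type*) [Group L] : MulAut L →* MulAut (L ⧸ center L) where
  toFun e := QuotientGroup.congr (center L) (center L) e
    (characteristic_iff_map_eq.1 inferInstance e)
  map_one' := by
    ext x
    induction x using QuotientGroup.induction_on
    rfl
  map_mul' e f := by
    ext x
    induction x using QuotientGroup.induction_on
    rfl

theorem autQuotCenter_mk {L : Type*} [Group L] (e : MulAut L) (x : L) :
    autQuotCenter L e (x : L ⧸ center L) = (e x : L) := rfl

omit [Finite G] hp in
/-- A group `H ≥ L` normalizing the perfect group `L` acts on `L / Z(L)` with kernel `C_H(L)`,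
and induces all inner automorphisms. -/
theorem exists_hom_mulAut_quotient_center {L H : Subgroup G} (hL : ⁅L, L⁆ = L) (hLH : L ≤ H)
    (hH : H ≤ normalizer (L : Set G)) :
    ∃ φ : H →* MulAut (L ⧸ center L), φ.ker = (centralizer (L : Set G)).subgroupOf H ∧
      (MulAut.conj : (L ⧸ center L) →* MulAut (L ⧸ center L)).range ≤ φ.range := by
  refine ⟨(autQuotCenter L).comp (L.normalizerMonoidHom.comp (inclusion hH)), ?_, ?_⟩
  · ext h
    rw [MonoidHom.mem_ker, mem_subgroupOf]
    constructor
    · intro h1
      have h2 : ∀ n : ℤ, ∀ l ∈ L, ⁅(h : G) ^ n, l⁆ ∈ centralizer (L : Set G) := by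
        intro n l hl
        have h3 : (autQuotCenter L).comp (L.normalizerMonoidHom.comp (inclusion hH)) (h ^ n) = 1 := by
          rw [map_zpow, h1, one_zpow]
        have h4 := congrArg (fun e : MulAut (L ⧸ center L) => e ((⟨l, hl⟩ : L) : L ⧸ center L)) h3
        have h5 : ((L.normalizerMonoidHom (inclusion hH (h ^ n)) ⟨l, hl⟩ : L) : L ⧸ center L) =
            (⟨l, hl⟩ : L) := h4
        rw [← div_eq_one, ← QuotientGroup.mk_div, QuotientGroup.eq_one_iff, div_eq_mul_inv,
          mem_center_iff] at h5
        intro y hy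
        exact congrArg Subtype.val (h5 ⟨y, hy⟩)
      have h3 : ⁅zpowers (h : G), L⁆ = ⊥ := by
        refine Sig.commutator_eq_bot_of_perfect hL ?_
        rw [commutator_eq_bot_iff_le_centralizer, commutator_le]
        rintro _ ⟨n, rfl⟩ l hl
        exact h2 n l hl
      exact zpowers_le.1 (commutator_eq_bot_iff_le_centralizer.1 h3)
    · intro h1
      have : L.normalizerMonoidHom (inclusion hH h) = 1 := by
        rw [← MonoidHom.mem_ker, normalizerMonoidHom_ker]
        exact h1
      rw [MonoidHom.comp_apply, MonoidHom.comp_apply, this, map_one]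
  · rintro _ ⟨q, rfl⟩
    induction q using QuotientGroup.induction_on with
    | H l =>
      refine ⟨⟨l, hLH l.2⟩, ?_⟩
      ext x
      induction x using QuotientGroup.induction_on
      rfl

end CL.PLoc
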