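import Cfsg.Agent.Base
import Cfsg.Agent.PLoc.CompNorm
import Cfsg.Agent.Sig.CompIn
import Cfsg.Agent.Solv.Fitting

/-!
# Bender's lemmas on maximal subgroups of simple groups and their generalized Fitting subgroups
-/

set_option autoImplicit false

open Cfsg Subgroup CL.Transfer CL.Sig
open scoped commutatorElement Pointwise

namespace CL.PLoc

variable {G : Type*} [Group G] {p r : ℕ}

theorem normalizer_eq_of_isCoatom [IsSimpleGroup G] {A N : Subgroup G} (hA : IsCoatom A)
    (hN1 : N ≠ ⊥) (hNA : N ≤ A) (hn : A ≤ normalizer (N : Set G)) :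
    normalizer (N : Set G) = A := by
  rcases hA.le_iff.1 hn with h | h
  · exfalso
    rcases (normalizer_eq_top_iff.1 h).eq_bot_or_eq_top with h1 | h1
    · exact hN1 h1
    · exact hA.1 (top_le_iff.1 (h1 ▸ hNA))
  · exact h

theorem centralizer_le_of_isCoatom [IsSimpleGroup G] {A N : Subgroup G} (hA : IsCoatom A)
    (hN1 : N ≠ ⊥) (hNA : N ≤ A) (hn : A ≤ normalizer (N : Set G)) :
    centralizer (N : Set G) ≤ A :=
  (centralizer_le_normalizer _).trans (normalizer_eq_of_isCoatom hA hN1 hNA hn).le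

/-- `Z(O_p(A))` in the ambient group. -/
abbrev zC (p : ℕ) (A : Subgroup G) : Subgroup G :=
  pC p A ⊓ centralizer ((pC p A : Subgroup G) : Set G)

theorem le_normalizer_zC (A : Subgroup G) :
    A ≤ normalizer ((zC p A : Subgroup G) : Set G) :=
  le_normalizer_inf (le_normalizer_pC A)
    ((le_normalizer_pC A).trans (normalizer_le_normalizer_centralizer' _))

variable [Finite G]

theorem isPGroup_zC (A : Subgroup G) : IsPGroup p (zC p A) := (isPGroup_pC A).to_le inf_le_left

variable [hp : Fact p.Prime]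

theorem inf_centralizer_ne_bot {P : Subgroup G} (hP : IsPGroup p P) (h1 : P ≠ ⊥) :
    P ⊓ centralizer (P : Set G) ≠ ⊥ := by
  have : Nontrivial P := (nontrivial_iff_ne_bot P).2 h1
  have h2 := hP.center_nontrivial
  rw [← map_center_subtype, Ne, map_eq_bot_iff_of_injective _ P.subtype_injective]
  exact (nontrivial_iff_ne_bot _).1 h2

theorem zC_ne_bot {A : Subgroup G} (h : pC p A ≠ ⊥) : zC p A ≠ ⊥ :=
  inf_centralizer_ne_bot (isPGroup_pC A) h

theorem pC_le_fittingOf (A : Subgroup G) : pC p A ≤ fittingOf A := map_mono pCore_le_fitting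

theorem pC_le_fstarIn (A : Subgroup G) : pC p A ≤ fstarIn A :=
  (pC_le_fittingOf A).trans (fittingOf_le_fstarIn A)

theorem mem_pC_of_mem_fittingOf {A : Subgroup G} {x : G} (hx : x ∈ fittingOf A) {k : ℕ}
    (hk : x ^ p ^ k = 1) : x ∈ pC p A := by
  obtain ⟨y, hy, rfl⟩ := hx
  exact ⟨y, mem_pCore_of_mem_fitting hy (k := k) (Subtype.ext hk), rfl⟩

theorem le_pC_of_le_fittingOf {A P : Subgroup G} (hP : IsPGroup p P) (h : P ≤ fittingOf A) :
    P ≤ pC p A := fun x hx => by
  obtain ⟨k, hk⟩ := hP ⟨x, hx⟩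
  exact mem_pC_of_mem_fittingOf (h hx) (k := k) (congrArg Subtype.val hk)

theorem mem_centralizer_pC_of_mem_fstarIn {A : Subgroup G} {x : G} (hx : x ∈ fstarIn A)
    (hc : (orderOf x).Coprime p) : x ∈ centralizer ((pC p A : Subgroup G) : Set G) := by
  obtain ⟨y, hy, rfl⟩ := hx
  rintro _ ⟨z, hz, rfl⟩
  exact congrArg Subtype.val
    (mem_centralizer_pCore_of_mem_genFitting hy (by simpa using hc) z hz)

theorem layerIn_le_centralizer_pC (A : Subgroup G) :
    layerIn A ≤ centralizer ((pC p A : Subgroup G) : Set G) :=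
  commutator_eq_bot_iff_le_centralizer.1
    (commutator_eq_bot_mono (layerIn_commute_fittingOf A) le_rfl (pC_le_fittingOf A))

omit [Finite G] in
theorem coprime_orderOf_of_mem_isPGroup [hr : Fact r.Prime] (hne : r ≠ p) {R : Subgroup G}
    (hR : IsPGroup r R) {x : G} (hx : x ∈ R) : (orderOf x).Coprime p := by
  obtain ⟨k, hk⟩ := hR ⟨x, hx⟩
  exact Nat.Coprime.coprime_dvd_left (orderOf_dvd_of_pow_eq_one (congrArg Subtype.val hk))
    (Nat.Coprime.pow_left k ((Nat.coprime_primes hr.out hp.out).2 hne))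

theorem pC_le_centralizer_pC [Fact r.Prime] (hne : r ≠ p) (A : Subgroup G) :
    pC r A ≤ centralizer ((pC p A : Subgroup G) : Set G) := fun _ hx =>
  mem_centralizer_pC_of_mem_fstarIn (pC_le_fstarIn A hx)
    (coprime_orderOf_of_mem_isPGroup hne (isPGroup_pC A) hx)

omit hp in
theorem fittingOf_le_of_forall {A T : Subgroup G}
    (h : ∀ (r : ℕ) (_ : Fact r.Prime), pC r A ≤ T) : fittingOf A ≤ T := by
  rw [fittingOf_eq_iSup]
  exact iSup_le fun r => h r ⟨r.2⟩

theorem fstarIn_le_centralizer_zC (A : Subgroup G) :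
    fstarIn A ≤ centralizer ((zC p A : Subgroup G) : Set G) := by
  rw [fstarIn_eq]
  refine sup_le ((layerIn_le_centralizer_pC A).trans (centralizer_le inf_le_left))
    (fittingOf_le_of_forall fun r _ => ?_)
  by_cases h : r = p
  · subst h
    exact le_centralizer_iff.1 inf_le_right
  · exact (pC_le_centralizer_pC h A).trans (centralizer_le inf_le_left)

theorem pC_ne_bot_iff {A : Subgroup G} : pC p A ≠ ⊥ ↔ p ∣ Nat.card (fittingOf A) := by
  constructor
  · intro h
    obtain ⟨k, hk⟩ := (isPGroup_pC (p := p) A).exists_card_eq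
    refine dvd_trans ?_ (card_dvd_of_le (pC_le_fittingOf (p := p) A))
    rw [hk]
    refine dvd_pow_self p ?_
    rintro rfl
    exact h (card_eq_one.1 (by simpa using hk))
  · intro h h1
    obtain ⟨x, hx⟩ := exists_prime_orderOf_dvd_card' p h
    have h2 : (x : G) ∈ pC p A := mem_pC_of_mem_fittingOf x.2 (k := 1)
      (by rw [pow_one, ← hx, ← coe_pow, pow_orderOf_eq_one, coe_one])
    rw [h1, mem_bot] at h2
    rw [show x = 1 from Subtype.ext h2, orderOf_one] at hx
    exact hp.out.one_lt.ne hx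

/-- A `p'`-element of `F^*(A)` lies in any subgroup containing `E(A)` and all `O_r(A)`,
`r ≠ p`. -/
theorem mem_of_mem_fstarIn_of_coprime {A T : Subgroup G} (h1 : layerIn A ≤ T)
    (h2 : ∀ (r : ℕ) (_ : Fact r.Prime), r ≠ p → pC r A ≤ T) {y : G} (hy : y ∈ fstarIn A)
    (hc : (orderOf y).Coprime p) : y ∈ T := by
  set C := centralizer ((pC p A : Subgroup G) : Set G) with hC
  have h3 : fstarIn A ≤ (T ⊓ C) ⊔ pC p A := by
    rw [fstarIn_eq]
    refine sup_le (le_sup_of_le_left (le_inf h1 (layerIn_le_centralizer_pC A)))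
      (fittingOf_le_of_forall fun r _ => ?_)
    by_cases h : r = p
    · subst h; exact le_sup_right
    · exact le_sup_of_le_left (le_inf (h2 r ‹_› h) (pC_le_centralizer_pC h A))
  obtain ⟨t, ⟨ht, htC⟩, u, hu, rfl⟩ := (mem_sup_of_le_normalizer_right
    (inf_le_right.trans (centralizer_le_normalizer _))).1 (h3 hy)
  obtain ⟨k, hk⟩ := isPGroup_pC (p := p) A ⟨u, hu⟩
  refine mem_of_pow_mem_of_coprime (n := p ^ k) ?_ (Nat.Coprime.pow_left k hc.symm)
  have hk' : u ^ p ^ k = 1 := congrArg Subtype.val hk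
  rw [(show Commute t u from (htC u hu).symm).mul_pow, hk', mul_one]
  exact pow_mem ht _

/-- `S` is a subnormal subgroup of `F^*(A)` containing its centralizer there. -/
structure LargeIn (S A : Subgroup G) : Prop where
  subn : SubnIn S (fstarIn A)
  cent : fstarIn A ⊓ centralizer (S : Set G) ≤ S

omit [Finite G] hp in
theorem largeIn_fstarIn (A : Subgroup G) : LargeIn (fstarIn A) A := ⟨SubnIn.refl _, inf_le_left⟩

namespace LargeIn

variable {S A B : Subgroup G}

omit [Finite G] hp in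
theorem le (h : LargeIn S A) : S ≤ A := h.subn.le.trans (fstarIn_le A)

omit [Finite G] hp in
theorem layerIn_le (h : LargeIn S A) : layerIn A ≤ S := by
  rw [← layerIn_fstarIn, layerIn_le_iff]
  intro K hK
  rcases hK.le_or_commute h.subn with h1 | h1
  · exact h1
  · exact (le_inf hK.le (commutator_eq_bot_iff_le_centralizer.1 h1)).trans h.cent

omit [Finite G] hp in
theorem eq_sup (h : LargeIn S A) : S = layerIn A ⊔ (fittingOf A ⊓ S) := by
  rw [← sup_inf_eq_of_le_normalizer'
    (le_normalizer_of_commutator_eq_bot (layerIn_commute_fittingOf A)) h.layerIn_le,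
    ← fstarIn_eq, inf_eq_right.2 h.subn.le]

theorem zC_le (h : LargeIn S A) : zC p A ≤ S :=
  (le_inf (inf_le_left.trans (pC_le_fstarIn A)) ((le_centralizer_iff.1
    (fstarIn_le_centralizer_zC A)).trans (centralizer_le h.subn.le))).trans h.cent

theorem pC_inf_centralizer_le (h : LargeIn S A) :
    pC p A ⊓ centralizer ((S ⊓ pC p A : Subgroup G) : Set G) ≤ S := by
  refine (le_inf (inf_le_left.trans (pC_le_fstarIn A)) ?_).trans h.cent
  rw [le_centralizer_iff]
  nth_rewrite 1 [h.eq_sup]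
  refine sup_le ((layerIn_le_centralizer_pC A).trans (centralizer_le inf_le_left)) ?_
  rintro s ⟨hsF, hsS⟩
  obtain ⟨a, b, ha, hb, ⟨k, hk⟩, hb', rfl⟩ := exists_p_part_mul_p'_part (p := p) s
  refine mul_mem ?_ ?_
  · intro x hx
    exact (hx.2 a ⟨zpowers_le.2 hsS ha, mem_pC_of_mem_fittingOf (zpowers_le.2 hsF ha) hk⟩).symm
  · exact centralizer_le inf_le_left (mem_centralizer_pC_of_mem_fstarIn
      (fittingOf_le_fstarIn A (zpowers_le.2 hsF hb)) hb')

/-- A `p'`-element of `A` centralizing `S ∩ O_p(A)` centralizes `O_p(A)`. -/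
theorem mem_centralizer_pC (h : LargeIn S A) {x : G} (hxA : x ∈ A) (hx : (orderOf x).Coprime p)
    (hC : x ∈ centralizer ((S ⊓ pC p A : Subgroup G) : Set G)) :
    x ∈ centralizer ((pC p A : Subgroup G) : Set G) :=
  mem_centralizer_of_pxq ((isPGroup_pC A).to_le inf_le_right) (isPGroup_pC A)
    (inf_le_right.trans le_normalizer) hx (le_normalizer_pC A hxA) hC
    (centralizer_le (le_inf h.pC_inf_centralizer_le inf_le_left) hC)

omit hp in
/-- An `r`-subgroup of `A` normalized by `S` centralizes `S ∩ O_p(A)`, `p ≠ r`. -/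
theorem le_centralizer_inf_pC [Fact p.Prime] [Fact r.Prime] (hne : r ≠ p) {Q : Subgroup G}
    (hQ : IsPGroup r Q) (hQA : Q ≤ A) (hSQ : S ≤ normalizer (Q : Set G)) :
    Q ≤ centralizer ((S ⊓ pC p A : Subgroup G) : Set G) := by
  intro x hx s hs
  have h1 : ⁅s, x⁆ ∈ pC p A ⊓ Q := by
    refine ⟨le_normalizer_iff_commutator_le_left.1 (hQA.trans (le_normalizer_pC A))
      (commutator_mem_commutator hs.2 hx), ?_⟩
    exact le_normalizer_iff_commutator_le_right.1 hSQ (commutator_mem_commutator hs.1 hx)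
  rw [inf_eq_bot_of_isPGroup_of_coprime (isPGroup_pC A) (coprime_card_of_isPGroup_of_ne hne hQ),
    mem_bot, commutatorElement_eq_one_iff_mul_comm] at h1
  exact h1

/-- An `r`-subgroup of `A` normalized by `S` centralizes `O_p(A)`, `p ≠ r`. -/
theorem le_centralizer_pC (h : LargeIn S A) [Fact r.Prime] (hne : r ≠ p) {Q : Subgroup G}
    (hQ : IsPGroup r Q) (hQA : Q ≤ A) (hSQ : S ≤ normalizer (Q : Set G)) :
    Q ≤ centralizer ((pC p A : Subgroup G) : Set G) := fun _ hx =>
  h.mem_centralizer_pC (hQA hx) (coprime_orderOf_of_mem_isPGroup hne hQ hx)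
    (le_centralizer_inf_pC hne hQ hQA hSQ hx)

theorem layerIn_le_centralizer (h : LargeIn S A) {Q : Subgroup G}
    (hQ : IsPGroup p Q) (hQA : Q ≤ A) (hSQ : S ≤ normalizer (Q : Set G)) :
    layerIn A ≤ centralizer (Q : Set G) :=
  have := hQ.isNilpotent
  commutator_eq_bot_iff_le_centralizer.1
    (layerIn_commute_of_solvable hQA inferInstance (h.layerIn_le.trans hSQ))

/-- A `p`-subgroup of `A` normalized by `S` is trivial when `O_p(A) = 1`. -/
theorem eq_bot (h : LargeIn S A) (h0 : pC p A = ⊥) {Q : Subgroup G}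
    (hQ : IsPGroup p Q) (hQA : Q ≤ A) (hSQ : S ≤ normalizer (Q : Set G)) : Q = ⊥ := by
  rw [eq_bot_iff, ← h0]
  refine le_pC_of_le_fittingOf hQ
    ((le_inf hQA ?_).trans (inf_centralizer_fstarIn_le_fittingOf A))
  rw [le_centralizer_iff, fstarIn_eq]
  refine sup_le (h.layerIn_le_centralizer hQ hQA hSQ) (fittingOf_le_of_forall fun r _ => ?_)
  by_cases hr : p = r
  · subst hr; rw [h0]; exact bot_le
  · exact le_centralizer_iff.1 (h.le_centralizer_pC hr hQ hQA hSQ)

theorem pC_inf_eq_bot (h : LargeIn S A) (h0 : pC p A = ⊥) (hSB : S ≤ B) : pC p B ⊓ A = ⊥ :=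
  h.eq_bot h0 ((isPGroup_pC B).to_le inf_le_left) inf_le_right
    (le_normalizer_inf (hSB.trans (le_normalizer_pC B)) (h.le.trans le_normalizer))

variable [IsSimpleGroup G]

/-- A `p'`-element of `S` that centralizes every `S`-invariant `p`-subgroup of `A` centralizes
every `S`-invariant `p`-subgroup. -/
theorem mem_centralizer_of_forall (h : LargeIn S A) (hA : IsCoatom A) (h0 : pC p A ≠ ⊥)
    {P : Subgroup G} (hP : IsPGroup p P) (hSP : S ≤ normalizer (P : Set G)) {x : G} (hxS : x ∈ S)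
    (hx : (orderOf x).Coprime p)
    (hC : ∀ Q : Subgroup G, IsPGroup p Q → Q ≤ A → S ≤ normalizer (Q : Set G) →
      x ∈ centralizer (Q : Set G)) : x ∈ centralizer (P : Set G) := by
  have hZA : zC p A ≤ A := inf_le_left.trans (pC_le A)
  refine mem_centralizer_of_pxq (isPGroup_zC A) hP (h.zC_le.trans hSP) hx (hSP hxS)
    (fstarIn_le_centralizer_zC A (h.subn.le hxS)) (hC _ (hP.to_le inf_le_left)
      (inf_le_right.trans (centralizer_le_of_isCoatom hA (zC_ne_bot h0) hZA (le_normalizer_zC A)))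
      (le_normalizer_inf hSP ?_))
  exact h.le.trans ((le_normalizer_zC A).trans (normalizer_le_normalizer_centralizer' _))

theorem layerIn_le_centralizer' (h : LargeIn S A) (hA : IsCoatom A) (h0 : pC p A ≠ ⊥)
    {P : Subgroup G} (hP : IsPGroup p P) (hSP : S ≤ normalizer (P : Set G)) :
    layerIn A ≤ centralizer (P : Set G) :=
  le_of_perfect_of_forall_coprime (p := p) (layerIn_commutator_self A) fun _ hx hc =>
    h.mem_centralizer_of_forall hA h0 hP hSP (h.layerIn_le hx) hc
      fun _ hQ hQA hSQ => h.layerIn_le_centralizer hQ hQA hSQ hx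

theorem pC_le_centralizer' (h : LargeIn S A) (hA : IsCoatom A) (h0 : pC p A ≠ ⊥)
    {P : Subgroup G} (hP : IsPGroup p P) (hSP : S ≤ normalizer (P : Set G)) [Fact r.Prime]
    (hne : r ≠ p) : pC r A ≤ centralizer (P : Set G) := by
  by_cases h1 : pC r A = ⊥
  · rw [h1]; exact bot_le
  have h2 : zC r A ≤ centralizer (P : Set G) := fun x hx =>
    h.mem_centralizer_of_forall hA h0 hP hSP (h.zC_le hx)
      (coprime_orderOf_of_mem_isPGroup hne (isPGroup_zC A) hx) fun Q hQ hQA hSQ =>
        le_centralizer_iff.1 (h.le_centralizer_pC hne.symm hQ hQA hSQ) hx.1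
  have h3 : P ≤ A := (le_centralizer_iff.1 h2).trans (centralizer_le_of_isCoatom hA (zC_ne_bot h1)
    (inf_le_left.trans (pC_le A)) (le_normalizer_zC A))
  exact le_centralizer_iff.1 (h.le_centralizer_pC hne.symm hP h3 hSP)

/-- The `p'`-elements of `F^*(A)` centralize every `S`-invariant `p`-subgroup, if `O_p(A) ≠ 1`. -/
theorem mem_centralizer_of_coprime (h : LargeIn S A) (hA : IsCoatom A) (h0 : pC p A ≠ ⊥)
    {P : Subgroup G} (hP : IsPGroup p P) (hSP : S ≤ normalizer (P : Set G)) {y : G}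
    (hy : y ∈ fstarIn A) (hc : (orderOf y).Coprime p) : y ∈ centralizer (P : Set G) :=
  mem_of_mem_fstarIn_of_coprime (h.layerIn_le_centralizer' hA h0 hP hSP)
    (fun _ _ hne => h.pC_le_centralizer' hA h0 hP hSP hne) hy hc

end LargeIn

/-! ### Bender's theorem on two maximal subgroups -/

section Max

variable [IsSimpleGroup G] {M N : Subgroup G}

omit [IsSimpleGroup G] in
theorem pC_eq_bot_of_fstarIn_le (h1 : fstarIn M ≤ N) (h2 : fstarIn N ≤ M) (h0 : pC p M = ⊥) :
    pC p N = ⊥ := by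
  rw [← (largeIn_fstarIn M).pC_inf_eq_bot h0 h1, eq_comm, inf_eq_left]
  exact (pC_le_fstarIn N).trans h2

omit hp in
theorem layerIn_le_of_fstarIn_le (hM : IsCoatom M) (h1 : fstarIn M ≤ N) (h2 : fstarIn N ≤ M) :
    layerIn M ≤ layerIn N := by
  rw [layerIn_le_iff]
  intro L hL
  have hLN : L ≤ N := hL.le_fstarIn.trans h1
  have hL' : CompIn L (M ⊓ N) := hL.of_le (le_inf hL.le hLN) inf_le_left
  by_contra hn
  refine quasisimple_not_le_solvable hL.quasisimple (S := fittingOf N)
    (have := fittingOf_isNilpotent N; inferInstance)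
    ((le_inf hLN ?_).trans (inf_centralizer_fstarIn_le_fittingOf N))
  rw [le_centralizer_iff, fstarIn_eq]
  refine sup_le (layerIn_le_iff.2 fun K hK => ?_) (fittingOf_le_of_forall fun r _ => ?_)
  · have hK' : CompIn K (M ⊓ N) := hK.of_le (le_inf (hK.le_fstarIn.trans h2) hK.le) inf_le_right
    refine commutator_eq_bot_iff_le_centralizer.1 (hK'.commute hL' ?_)
    rintro rfl
    exact hn hK.le_layerIn
  · by_cases h0 : pC r M = ⊥
    · rw [pC_eq_bot_of_fstarIn_le h1 h2 h0]; exact bot_le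
    · exact le_centralizer_iff.1 (hL.le_layerIn.trans ((largeIn_fstarIn M).layerIn_le_centralizer'
        hM h0 (isPGroup_pC N) (h1.trans (le_normalizer_pC N))))

omit hp in
theorem layerIn_eq_bot_of_fstarIn_le (hM : IsCoatom M) (hN : IsCoatom N) (hMN : M ≠ N)
    (h1 : fstarIn M ≤ N) (h2 : fstarIn N ≤ M) : layerIn M = ⊥ := by
  by_contra h
  have h3 : layerIn M = layerIn N :=
    le_antisymm (layerIn_le_of_fstarIn_le hM h1 h2) (layerIn_le_of_fstarIn_le hN h2 h1)
  apply hMN
  rw [← normalizer_eq_of_isCoatom hM h (layerIn_le M) (normIn_layerIn M).2, h3,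
    normalizer_eq_of_isCoatom hN (h3 ▸ h) (layerIn_le N) (normIn_layerIn N).2]

/-- The `p'`-elements of `F^*(N)` centralize `O_p(M)`. -/
theorem mem_centralizer_pC_of_fstarIn_le (hN : IsCoatom N) (h1 : fstarIn M ≤ N)
    (h2 : fstarIn N ≤ M) {y : G} (hy : y ∈ fstarIn N) (hc : (orderOf y).Coprime p) :
    y ∈ centralizer ((pC p M : Subgroup G) : Set G) := by
  by_cases h0 : pC p N = ⊥
  · rw [pC_eq_bot_of_fstarIn_le h2 h1 h0, ← zpowers_le_centralizer_iff]
    exact bot_le
  · exact (largeIn_fstarIn N).mem_centralizer_of_coprime hN h0 (isPGroup_pC M)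
      (h2.trans (le_normalizer_pC M)) hy hc

theorem pC_le_pC_of_fstarIn_le (hM : IsCoatom M) (hN : IsCoatom N) (h1 : fstarIn M ≤ N)
    (h2 : fstarIn N ≤ M) (hE : layerIn N = ⊥) [hr : Fact r.Prime] (hne : r ≠ p)
    (h0 : pC r M ≠ ⊥) : pC p M ≤ pC p N := by
  have hPN : pC p M ≤ N := (pC_le_fstarIn M).trans h1
  have hRN : pC r M ≤ N := (pC_le_fstarIn M).trans h1
  -- every `N`-conjugate of an element of `O_p(M)` centralizes `O_r(M)`
  have key : ∀ x ∈ pC p M, ∀ n ∈ N,
      n * x * n⁻¹ ∈ centralizer ((pC r M : Subgroup G) : Set G) := by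
    intro x hx n hn y hy
    set d := n * x * n⁻¹ with hd
    have hdN : d ∈ N := mul_mem (mul_mem hn (hPN hx)) (inv_mem hn)
    have hNC : ∀ s : ℕ, N ≤ normalizer
        ((centralizer ((pC s N : Subgroup G) : Set G) : Subgroup G) : Set G) := fun s =>
      (le_normalizer_pC N).trans (normalizer_le_normalizer_centralizer' _)
    have hcomm : ∀ (s t : ℕ) [Fact s.Prime] [Fact t.Prime], s ≠ t →
        pC t M ≤ centralizer ((pC s N : Subgroup G) : Set G) := fun s t _ _ hst =>
      le_centralizer_iff.1 fun z hz => mem_centralizer_pC_of_fstarIn_le hN h1 h2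
        (pC_le_fstarIn N hz) (coprime_orderOf_of_mem_isPGroup hst (isPGroup_pC N) hz)
    have hdC : ∀ (s : ℕ) [Fact s.Prime], s ≠ p →
        d ∈ centralizer ((pC s N : Subgroup G) : Set G) := fun s _ hs =>
      (mem_normalizer_iff.1 (hNC s hn) x).1 (hcomm s p hs hx)
    have hcF : ⁅d, y⁆ ∈ fittingOf N := by
      refine inf_centralizer_fstarIn_le_fittingOf N (mem_inf.2
        ⟨mul_mem (mul_mem (mul_mem hdN (hRN hy)) (inv_mem hdN)) (inv_mem (hRN hy)), ?_⟩)
      rw [fstarIn_eq, hE, bot_sup_eq, ← zpowers_le_centralizer_iff]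
      refine fittingOf_le_of_forall fun s _ => zpowers_le_centralizer_iff.2 ?_
      by_cases hs : s = p
      · subst hs
        have h3 := hcomm s r hne.symm hy
        exact mul_mem ((mem_normalizer_iff.1 (hNC s hdN) y).1 h3) (inv_mem h3)
      · have h3 := hdC s hs
        rw [show ⁅d, y⁆ = d * (y * d⁻¹ * y⁻¹) by simp only [commutatorElement_def, mul_assoc]]
        exact mul_mem h3 ((mem_normalizer_iff.1 (hNC s (hRN hy)) _).1 (inv_mem h3))
    obtain ⟨a, b, ha, hb, ⟨k, hk⟩, hb', hab⟩ := exists_p_part_mul_p'_part (p := r) ⁅d, y⁆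
    have haR : a ∈ pC r N := mem_pC_of_mem_fittingOf (zpowers_le.2 hcF ha) hk
    have hbF : b ∈ fstarIn N := fittingOf_le_fstarIn N (zpowers_le.2 hcF hb)
    have hby : Commute b y := (mem_centralizer_pC_of_fstarIn_le hN h1 h2 hbF hb' y hy).symm
    have hba : Commute b a := (mem_centralizer_pC_of_mem_fstarIn hbF hb' a haR).symm
    have hW : IsPGroup r (pC r M ⊔ pC r N : Subgroup G) :=
      (isPGroup_pC M).to_sup_of_normal_right' (isPGroup_pC N) (hRN.trans (le_normalizer_pC N))
    obtain ⟨i, hi⟩ := hW ⟨a * y, mul_mem (mem_sup_right haR) (mem_sup_left hy)⟩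
    have hi' : (a * y) ^ r ^ i = 1 := congrArg Subtype.val hi
    obtain ⟨j, hj⟩ := isPGroup_pC (p := r) M ⟨y, hy⟩
    have hj' : y ^ r ^ j = 1 := congrArg Subtype.val hj
    have hb1 : b = 1 := by
      refine eq_one_of_pow_eq_one_of_coprime (p := r) (k := i + j) ?_ hb'
      have h3 : b * (a * y) = d * y * d⁻¹ := by
        rw [← mul_assoc, hba.eq, ← hab, commutatorElement_def, inv_mul_cancel_right]
      have h4 : (b * (a * y)) ^ r ^ (i + j) = 1 := by
        rw [h3, conj_pow, pow_add, mul_comm (r ^ i), pow_mul, hj', one_pow, mul_one,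
          mul_inv_cancel]
      rwa [(hba.mul_right hby).mul_pow, pow_add r, pow_mul (a * y), hi', one_pow, mul_one,
        ← pow_add] at h4
    rw [hb1, mul_one] at hab
    obtain ⟨m, hm⟩ := isPGroup_pC (p := p) M ⟨x, hx⟩
    have hm' : x ^ p ^ m = 1 := congrArg Subtype.val hm
    refine (commute_of_commute_commutator_of_coprime (q := d) (d := y) ?_ (m := p ^ m)
      (n := r ^ k) ?_ (hab ▸ hk) ?_).symm
    · rw [hab]; exact (hdC r hne a haR).symm
    · rw [hd, conj_pow, hm', mul_one, mul_inv_cancel]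
    · exact Nat.Coprime.pow _ _ ((Nat.coprime_primes hp.out hr.out).2 hne.symm)
  set T := ((centralizer ((pC r M : Subgroup G) : Set G)).subgroupOf N).normalCore with hT
  refine le_pC_of_isSubnormal hPN (isSubnormal_of_le_normalizer (K := T) ?_ ?_
    (Normal.isSubnormal inferInstance)) (isPGroup_pC M)
  · exact fun x hx n => key x hx n n.2
  · intro t ht
    refine le_normalizer_comap N.subtype (le_normalizer_pC M ?_)
    exact centralizer_le_of_isCoatom hM h0 (pC_le M) (le_normalizer_pC M)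
      (normalCore_le ((centralizer ((pC r M : Subgroup G) : Set G)).subgroupOf N) ht)

omit hp in
/-- **Bender**: distinct maximal subgroups of a simple group containing each other's generalized
Fitting subgroups have both characteristic `p` for one prime `p`. -/
theorem exists_isPGroup_fstarIn (hM : IsCoatom M) (hN : IsCoatom N) (hMN : M ≠ N)
    (h1 : fstarIn M ≤ N) (h2 : fstarIn N ≤ M) :
    ∃ p : ℕ, p.Prime ∧ IsPGroup p (fstarIn M) ∧ IsPGroup p (fstarIn N) := by
  have hEM := layerIn_eq_bot_of_fstarIn_le hM hN hMN h1 h2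
  have hEN := layerIn_eq_bot_of_fstarIn_le hN hM hMN.symm h2 h1
  have key : ∃ p : ℕ, p.Prime ∧ ∀ (r : ℕ) (_ : Fact r.Prime), r ≠ p → pC r M = ⊥ := by
    by_contra hcon
    push Not at hcon
    obtain ⟨p, hp, -, hp0⟩ := hcon 2 Nat.prime_two
    obtain ⟨r, hr, hne, hr0⟩ := hcon p hp.out
    have h3 : pC p M = pC p N := le_antisymm (pC_le_pC_of_fstarIn_le hM hN h1 h2 hEN hne hr0)
      (pC_le_pC_of_fstarIn_le hN hM h2 h1 hEM hne fun h => hr0 (pC_eq_bot_of_fstarIn_le h2 h1 h))
    apply hMN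
    rw [← normalizer_eq_of_isCoatom hM hp0 (pC_le M) (le_normalizer_pC M), h3,
      normalizer_eq_of_isCoatom hN (h3 ▸ hp0) (pC_le N) (le_normalizer_pC N)]
  obtain ⟨p, hp, h⟩ := key
  refine ⟨p, hp, (isPGroup_pC M).to_le ?_, (isPGroup_pC N).to_le ?_⟩
  · rw [fstarIn_eq, hEM, bot_sup_eq]
    refine fittingOf_le_of_forall fun r _ => ?_
    by_cases hr : r = p
    · rw [hr]
    · rw [h r ‹_› hr]; exact bot_le
  · rw [fstarIn_eq, hEN, bot_sup_eq]
    refine fittingOf_le_of_forall fun r _ => ?_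
    by_cases hr : r = p
    · rw [hr]
    · rw [pC_eq_bot_of_fstarIn_le h1 h2 (h r ‹_› hr)]; exact bot_le

end Max

end CL.PLoc
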